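import Mathlib.GroupTheory.PGroup
import Mathlib.GroupTheory.Sylow
import Mathlib.GroupTheory.Perm.Centralizer
import Mathlib.Tactic
import Cfsg.Agent.SylowNumber.Basic
import Cfsg.Agent.SylowCount.Basic
import Cfsg.Agent.Small.OrderTools

/-!
# Twenty-one Sylow 5-subgroups of order at least 25
-/

open scoped Pointwise

namespace CfsgLib.Small.TwentyOne

/-- A permutation group on `15` points that commutes with a fixed-point-free element of order
five does not have six Sylow 5-subgroups. -/
theorem card_sylow_ne_six_of_commute {W : Type*} [Finite W] (hW : Nat.card W = 15)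
    [Fact (Nat.Prime 5)]
    (δ : Equiv.Perm W) (hδ : ∀ w, δ w ≠ w) (hδ5 : δ ^ 5 = 1) (H : Subgroup (Equiv.Perm W))
    (hc : ∀ i ∈ H, Commute i δ) : Nat.card (Sylow 5 H) ≠ 6 := by
  classical
  haveI := Fintype.ofFinite W
  have hsm : ∀ i ∈ H, ∀ (n : ℕ) (w : W), i ((δ ^ n) w) = (δ ^ n) (i w) := fun i hi n w =>
    congrArg (fun σ : Equiv.Perm W => σ w) ((hc i hi).pow_right n).eq
  letI st : Setoid W := MulAction.orbitRel ↥(Subgroup.zpowers δ) W
  have hrel : ∀ a b : W, st a b ↔ ∃ n : ℕ, (δ ^ n) b = a := by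
    intro a b
    constructor
    · rintro ⟨⟨c, hc'⟩, rfl⟩
      obtain ⟨n, -, rfl⟩ := Finset.mem_image.1 (mem_zpowers_iff_mem_range_orderOf.1 hc')
      exact ⟨n, rfl⟩
    · rintro ⟨n, rfl⟩
      exact ⟨⟨δ ^ n, pow_mem (Subgroup.mem_zpowers δ) n⟩, rfl⟩
  haveI : Finite (Quotient st) := Quotient.finite _
  let φ : H →* Equiv.Perm (Quotient st) :=
    { toFun := fun i => Quotient.congr (i : Equiv.Perm W) fun a b => by
        rw [hrel, hrel]
        constructor
        · rintro ⟨n, rfl⟩; exact ⟨n, (hsm i i.2 n b).symm⟩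
        · rintro ⟨n, hn⟩
          rw [← hsm i i.2 n b] at hn
          exact ⟨n, (i : Equiv.Perm W).injective hn⟩
      map_one' := Equiv.ext fun q => by induction q using Quotient.inductionOn; rfl
      map_mul' := fun a b => Equiv.ext fun q => by induction q using Quotient.inductionOn; rfl }
  have hker : ∀ i : φ.ker, ∀ w : W, ∃ n : ℕ, (δ ^ n) w = (i : Equiv.Perm W) w := by
    intro i w
    have h : φ i.1 (Quotient.mk st w) = Quotient.mk st w := by rw [MonoidHom.mem_ker.1 i.2]; rfl
    exact (hrel _ _).1 (Quotient.eq.1 h)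
  have hker5 : IsPGroup 5 φ.ker := by
    intro i
    refine ⟨1, Subtype.ext (Subtype.ext (Equiv.ext fun w => ?_))⟩
    obtain ⟨n, hn⟩ := hker i w
    have hk : ∀ k : ℕ, (((i : H) : Equiv.Perm W) ^ k) w = (δ ^ (n * k)) w := by
      intro k
      induction k with
      | zero => simp
      | succ k ih =>
        rw [pow_succ', Equiv.Perm.mul_apply, ih, hsm i i.1.2, ← hn, Nat.mul_succ, pow_add,
          Equiv.Perm.mul_apply]
    simp only [pow_one, SubgroupClass.coe_pow, OneMemClass.coe_one, Equiv.Perm.coe_one, id_eq]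
    rw [hk, mul_comm, pow_mul, hδ5, one_pow, Equiv.Perm.one_apply]
  have hQ : Nat.card (Quotient st) = 3 := by
    have hX : IsPGroup 5 ↥(Subgroup.zpowers δ) :=
      IsPGroup.of_card (n := 1) (by
        rw [Nat.card_zpowers, pow_one]
        refine orderOf_eq_prime hδ5 fun h => ?_
        obtain ⟨w⟩ : Nonempty W := (Nat.card_pos_iff.1 (by omega : 0 < Nat.card W)).1
        exact hδ w (by rw [h]; rfl))
    have horb : ∀ q : MulAction.orbitRel.Quotient ↥(Subgroup.zpowers δ) W,
        Nat.card (MulAction.orbitRel.Quotient.orbit q) = 5 := by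
      intro q
      induction q using Quotient.inductionOn' with
      | h w =>
        rw [MulAction.orbitRel.Quotient.orbit_mk]
        obtain ⟨n, hn⟩ := hX.card_orbit w
        have h5 : Nat.card ↥(Subgroup.zpowers δ) = 5 := by
          rw [Nat.card_zpowers]
          exact orderOf_eq_prime hδ5 fun h => hδ w (by rw [h]; rfl)
        have hle : Nat.card (MulAction.orbit ↥(Subgroup.zpowers δ) w) ≤ 5 := by
          rw [← h5, Nat.card_congr (MulAction.orbitEquivQuotientStabilizer _ w)]
          exact Nat.le_of_dvd Nat.card_pos (Subgroup.card_quotient_dvd_card _)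
        rw [hn] at hle
        rcases Nat.eq_zero_or_pos n with rfl | hn0
        · rw [pow_zero, Nat.card_eq_one_iff_unique] at hn
          exact absurd (congrArg Subtype.val (hn.1.elim
            (⟨δ w, ⟨⟨δ, Subgroup.mem_zpowers δ⟩, rfl⟩⟩ : MulAction.orbit ↥(Subgroup.zpowers δ) w)
            ⟨w, MulAction.mem_orbit_self w⟩)) (hδ w)
        · have h1 : 5 ≤ 5 ^ n := Nat.le_self_pow hn0.ne' 5
          omega
    haveI := Fintype.ofFinite (MulAction.orbitRel.Quotient ↥(Subgroup.zpowers δ) W)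
    have h := Nat.card_congr (MulAction.selfEquivSigmaOrbits' ↥(Subgroup.zpowers δ) W)
    rw [hW, Nat.card_sigma, Finset.sum_congr rfl (fun q _ => horb q), Finset.sum_const,
      Finset.card_univ, smul_eq_mul, ← Nat.card_eq_fintype_card] at h
    change Nat.card (MulAction.orbitRel.Quotient ↥(Subgroup.zpowers δ) W) = 3
    omega
  have hidx : ¬ 5 ∣ φ.ker.index := by
    intro h
    have h6 : φ.ker.index ∣ 6 := by
      rw [Subgroup.index_ker]
      have := Subgroup.card_subgroup_dvd_card φ.range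
      rwa [Nat.card_perm, hQ] at this
    exact absurd (h.trans h6) (by norm_num)
  intro h6
  have hone : Nat.card (Sylow 5 H) = 1 := by
    rw [Nat.card_eq_one_iff_unique]
    refine ⟨⟨fun Q R => ?_⟩, inferInstance⟩
    have hQ' : ∀ Q : Sylow 5 H, (Q : Subgroup H) = φ.ker := fun Q =>
      Q.3 hker5 (SylowCount.sylow_le_of_not_dvd_index hidx Q) |>.symm
    exact Sylow.ext ((hQ' Q).trans (hQ' R).symm)
  omega

variable {G : Type*} [Group G] [Finite G]

/-- No nonabelian simple group has twenty-one Sylow 5-subgroups of order at least 25. -/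
theorem false_of_big [IsSimpleGroup G] (hG : ¬ IsMulCommutative G) [Fact (Nat.Prime 5)]
    (hn : Nat.card (Sylow 5 G) = 21) (P : Sylow 5 G) (hbig : 25 ∣ Nat.card P) : False := by
  classical
  haveI := Fintype.ofFinite (Sylow 5 G)
  have h5G : 5 ∣ Nat.card G := (show 5 ∣ 25 by norm_num).trans
    (hbig.trans (Subgroup.card_subgroup_dvd_card _))
  have hfaith : ∀ g : G, (∀ R : Sylow 5 G, g • R = R) → g = 1 := by
    intro g hg
    have hker : g ∈ (MulAction.toPermHom G (Sylow 5 G)).ker := Equiv.ext hg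
    rcases ((MonoidHom.normal_ker (MulAction.toPermHom G (Sylow 5 G))).eq_bot_or_eq_top) with h | h
    · rwa [h, Subgroup.mem_bot] at hker
    · exfalso
      refine card_sylow_ne_one hG h5G ?_
      rw [Nat.card_eq_one_iff_unique]
      refine ⟨⟨fun Q R => ?_⟩, inferInstance⟩
      obtain ⟨k, rfl⟩ := MulAction.exists_smul_eq G Q R
      have hk : k ∈ (MulAction.toPermHom G (Sylow 5 G)).ker := h ▸ Subgroup.mem_top k
      exact (DFunLike.congr_fun (MonoidHom.mem_ker.1 hk) Q).symm
  -- membership and stabilisers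
  have hst : ∀ (Q R : Sylow 5 G) (a : G), a ∈ (Q : Subgroup G) →
      (a • R = R ↔ a ∈ (R : Subgroup G)) := by
    intro Q R a ha
    rw [Sylow.smul_eq_iff_mem_normalizer]
    exact ⟨fun h => ((Q.isPGroup'.inf_normalizer_sylow R).le ⟨ha, h⟩).2,
      fun h => Subgroup.le_normalizer h⟩
  have hidx5 : ∀ R : Sylow 5 G, R ≠ P →
      (R : Subgroup G).relIndex (P : Subgroup G) = 5 := by
    intro R hR
    have hstab : MulAction.stabilizer ↥(P : Subgroup G) R = (R : Subgroup G).subgroupOf P := by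
      ext a
      rw [MulAction.mem_stabilizer_iff, Subgroup.smul_def, hst P R a a.2, Subgroup.mem_subgroupOf]
    obtain ⟨j, hj⟩ := P.isPGroup'.card_orbit R
    have hle : Nat.card (MulAction.orbit ↥(P : Subgroup G) R) ≤ 20 := by
      have h : Nat.card (MulAction.orbit ↥(P : Subgroup G) R) ≤ Nat.card {Q : Sylow 5 G // Q ≠ P} :=
        Nat.card_le_card_of_injective (fun Q => ⟨Q.1, by
          obtain ⟨a, ha⟩ := Q.2
          intro h
          apply hR
          rw [← inv_smul_smul a R, show a • R = P from ha.trans h, Subgroup.smul_def]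
          exact Sylow.smul_eq_iff_mem_normalizer.2 (Subgroup.le_normalizer (a⁻¹).2)⟩)
          fun a b hab => Subtype.ext (congrArg Subtype.val hab :)
      rw [Nat.card_eq_fintype_card (α := {Q : Sylow 5 G // Q ≠ P}), Fintype.card_subtype_compl,
        Fintype.card_subtype_eq, ← Nat.card_eq_fintype_card, hn] at h
      exact h
    rw [hj] at hle
    have hj1 : j = 1 := by
      rcases (show j = 0 ∨ j = 1 ∨ 2 ≤ j by omega) with h | h | h
      · exfalso
        rw [h, pow_zero, Nat.card_eq_one_iff_unique] at hj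
        apply hR
        have hP : (P : Subgroup G) ≤ (R : Subgroup G) := fun a ha => (hst P R a ha).1
          (congrArg Subtype.val (hj.1.elim
            (⟨a • R, ⟨⟨a, ha⟩, rfl⟩⟩ : MulAction.orbit ↥(P : Subgroup G) R)
            ⟨R, MulAction.mem_orbit_self R⟩) :)
        exact Sylow.ext (P.3 R.isPGroup' hP)
      · exact h
      · exfalso
        have : 5 ^ 2 ≤ 5 ^ j := Nat.pow_le_pow_right (by norm_num) h
        omega
    rw [hj1, pow_one, Nat.card_coe_set_eq, ← MulAction.index_stabilizer, hstab] at hj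
    exact hj
  -- the Sylow subgroups are abelian
  have hPab : ∀ a ∈ (P : Subgroup G), ∀ b ∈ (P : Subgroup G), Commute a b := by
    intro a ha b hb
    show a * b = b * a
    refine mul_inv_eq_one.1 (hfaith (a * b * (b * a)⁻¹) fun R => ?_)
    have hm : a * b * (b * a)⁻¹ ∈ (P : Subgroup G) := mul_mem (mul_mem ha hb) (inv_mem (mul_mem hb ha))
    by_cases hR : R = P
    · subst hR
      exact Sylow.smul_eq_iff_mem_normalizer.2 (Subgroup.le_normalizer hm)
    rw [hst P R _ hm]
    set D := (R : Subgroup G).subgroupOf (P : Subgroup G)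
    have hD : D.index = 5 := hidx5 R hR
    haveI : Nontrivial ↥(P : Subgroup G) :=
      Finite.one_lt_card_iff_nontrivial.1 (lt_of_lt_of_le (by norm_num : 1 < 25)
        (Nat.le_of_dvd Nat.card_pos hbig))
    have hmin : (Nat.card ↥(P : Subgroup G)).minFac = 5 := by
      obtain ⟨j, hj⟩ := P.isPGroup'.exists_card_eq
      rw [hj, Nat.pow_minFac]
      · norm_num
      · rintro rfl
        exact absurd (Nat.le_of_dvd (by norm_num) (hj ▸ hbig : 25 ∣ 5 ^ 0)) (by norm_num)
    haveI := Subgroup.normal_of_index_eq_minFac_card (H := D) (hD.trans hmin.symm)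
    haveI : IsCyclic (↥(P : Subgroup G) ⧸ D) :=
      isCyclic_of_prime_card (p := 5) (by rw [← Subgroup.index_eq_card, hD])
    let qa : ↥(P : Subgroup G) ⧸ D := (⟨a, ha⟩ : ↥(P : Subgroup G))
    let qb : ↥(P : Subgroup G) ⧸ D := (⟨b, hb⟩ : ↥(P : Subgroup G))
    have hcomm : qa * qb * (qb * qa)⁻¹ = 1 := by
      rw [mul_inv_eq_one]
      exact (IsCyclic.isMulCommutative (α := ↥(P : Subgroup G) ⧸ D)).is_comm.comm qa qb
    let x : ↥(P : Subgroup G) := ⟨a, ha⟩
    let y : ↥(P : Subgroup G) := ⟨b, hb⟩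
    exact (QuotientGroup.eq_one_iff (N := D) (x * y * (y * x)⁻¹)).1 hcomm
  have hab : ∀ Q : Sylow 5 G, ∀ a ∈ (Q : Subgroup G), ∀ b ∈ (Q : Subgroup G), Commute a b := by
    intro Q a ha b hb
    obtain ⟨g, rfl⟩ := MulAction.exists_smul_eq G P Q
    obtain ⟨a', ha', rfl⟩ := ha
    obtain ⟨b', hb', rfl⟩ := hb
    exact (hPab a' ha' b' hb').map _
  obtain ⟨R₁, hR₁⟩ : ∃ R : Sylow 5 G, R ≠ P := Fintype.exists_ne_of_one_lt_card
    (by rw [← Nat.card_eq_fintype_card, hn]; norm_num) P
  let F : Sylow 5 G → Subgroup G := fun R => (P : Subgroup G) ⊓ (R : Subgroup G)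
  have hFsub : ∀ R : Sylow 5 G, R ≠ P → Nat.card ↥(F R) * 5 = Nat.card P := by
    intro R hR
    have h := Subgroup.card_mul_index ((R : Subgroup G).subgroupOf (P : Subgroup G))
    rw [show ((R : Subgroup G).subgroupOf (P : Subgroup G)).index = 5 from hidx5 R hR] at h
    rw [← h]
    congr 1
    rw [show (R : Subgroup G).subgroupOf (P : Subgroup G) = (F R).subgroupOf P by
      rw [Subgroup.inf_subgroupOf_left]]
    exact (Nat.card_congr (Subgroup.subgroupOfEquivOfLe (inf_le_left : F R ≤ _)).toEquiv).symm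
  have hD25 : ∀ R : Sylow 5 G, R ≠ P → 5 ∣ Nat.card ↥(F R) := fun R hR => by
    obtain ⟨c, hc⟩ := hbig
    exact ⟨c, by have := hFsub R hR; omega⟩
  -- constant on orbits of `P`
  have horb : ∀ R : Sylow 5 G, R ≠ P → ∀ a ∈ (P : Subgroup G), F (a • R) = F R := by
    intro R _ a ha
    ext x
    simp only [F, Subgroup.mem_inf]
    refine and_congr_right fun hx => ?_
    rw [← hst P (a • R) x hx, ← hst P R x hx, smul_smul, (hPab x hx a ha).eq, ← smul_smul,
      smul_left_cancel_iff]
  let Im := (Finset.univ.erase P).image F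
  have hfib : ∀ D ∈ Im, 5 ≤ ((Finset.univ.erase P).filter fun R => F R = D).card := by
    intro D hD
    obtain ⟨R, hR, rfl⟩ := Finset.mem_image.1 hD
    have hR' := Finset.ne_of_mem_erase hR
    let O := MulAction.orbit ↥(P : Subgroup G) R
    have hO : Nat.card O = 5 := by
      rw [Nat.card_coe_set_eq, ← MulAction.index_stabilizer]
      refine Eq.trans ?_ (hidx5 R hR')
      show _ = ((R : Subgroup G).subgroupOf (P : Subgroup G)).index
      congr 1
      ext a
      rw [MulAction.mem_stabilizer_iff, Subgroup.smul_def, hst P R a a.2, Subgroup.mem_subgroupOf]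
    refine le_of_eq_of_le hO.symm ?_
    rw [Nat.card_eq_card_toFinset]
    refine Finset.card_le_card fun Q hQ => ?_
    obtain ⟨⟨a, ha⟩, rfl⟩ := Set.mem_toFinset.1 hQ
    refine Finset.mem_filter.2 ⟨Finset.mem_erase.2 ⟨?_, Finset.mem_univ _⟩, horb R hR' a ha⟩
    intro h
    apply hR'
    rw [← inv_smul_smul a R, show a • R = P from h]
    exact Sylow.smul_eq_iff_mem_normalizer.2 (Subgroup.le_normalizer (inv_mem ha))
  have hcard20 : (Finset.univ.erase P).card = 20 := by
    rw [Finset.card_erase_of_mem (Finset.mem_univ _), Finset.card_univ, ← Nat.card_eq_fintype_card, hn]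
  have hsum : ∑ D ∈ Im, ((Finset.univ.erase P).filter fun R => F R = D).card = 20 := by
    rw [← hcard20, Finset.card_eq_sum_card_image F]
  have hIm : Im.card * 5 ≤ 20 := by
    rw [← hsum, ← smul_eq_mul]
    exact (Finset.card_nsmul_le_sum _ _ _ hfib)
  set D := F R₁ with hDdef
  set X := Subgroup.normalizer (D : Set G) with hX
  have hDP : D ≤ (P : Subgroup G) := inf_le_left
  have hDR : D ≤ (R₁ : Subgroup G) := inf_le_right
  have hD1 : D ≠ ⊥ := fun h => by
    have := hD25 R₁ hR₁
    rw [← hDdef, h, Subgroup.card_bot] at this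
    norm_num at this
  have hDdvd : D ≠ ⊤ := fun h => by
    have h1 := hFsub R₁ hR₁
    rw [← hDdef, h, Subgroup.card_top] at h1
    have h2 : Nat.card P ≤ Nat.card G :=
      Nat.le_of_dvd Nat.card_pos (Subgroup.card_subgroup_dvd_card (P : Subgroup G))
    have h3 : 0 < Nat.card G := Nat.card_pos
    omega
  have hXtop : X ≠ ⊤ := normalizer_ne_top hD1 hDdvd
  set Y := Subgroup.centralizer (D : Set G) with hY
  have hYX : Y ≤ X := Subgroup.centralizer_le_normalizer _
  have hsylY : ∀ Q : Sylow 5 G, D ≤ (Q : Subgroup G) ↔ (Q : Subgroup G) ≤ Y := by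
    intro Q
    constructor
    · intro h a ha
      rw [hY, Subgroup.mem_centralizer_iff]
      exact fun d hd => (hab Q d (h hd) a ha).eq
    · intro h d hd
      have hsup : IsPGroup 5 ↥((Q : Subgroup G) ⊔ D) :=
        Q.isPGroup'.to_sup_of_normal_right' (P.isPGroup'.to_le hDP) (h.trans hYX)
      exact (Q.3 hsup le_sup_left).le (Subgroup.mem_sup_right hd)
  have hPY : (P : Subgroup G) ≤ Y := (hsylY P).1 hDP
  have hR₁Y : (R₁ : Subgroup G) ≤ Y := (hsylY R₁).1 hDR
  have hn' : Nat.card (Sylow 5 Y) = Nat.card {Q : Sylow 5 G // D ≤ (Q : Subgroup G)} := by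
    rw [SylowCount.card_sylow_subgroup P hPY]
    exact Nat.card_congr (Equiv.subtypeEquivRight fun Q => (hsylY Q).symm)
  obtain ⟨n, hmod, hXcard, hne1⟩ := exists_card_eq_mul_normalizer P (hPY.trans hYX)
  have hnX : n = Nat.card {Q : Sylow 5 G // D ≤ (Q : Subgroup G)} := by
    let P' : Sylow 5 ↥X := P.subtype (hPY.trans hYX)
    have h1 : n * Nat.card ↥(Subgroup.normalizer ((P : Subgroup G) : Set G) ⊓ X)
        = Nat.card (Sylow 5 X) * Nat.card ↥(Subgroup.normalizer ((P : Subgroup G) : Set G) ⊓ X) := by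
      rw [← hXcard, ← card_sylow_mul_card_normalizer P']
      congr 1
      have e : Subgroup.normalizer ((P' : Subgroup ↥X) : Set ↥X)
          = (Subgroup.normalizer ((P : Subgroup G) : Set G) ⊓ X).subgroupOf X := by
        rw [Subgroup.inf_subgroupOf_right]
        exact (Subgroup.subgroupOf_normalizer_eq (hPY.trans hYX)).symm
      rw [e]
      exact Nat.card_congr (Subgroup.subgroupOfEquivOfLe inf_le_right).toEquiv
    rw [Nat.eq_of_mul_eq_mul_right Nat.card_pos h1, SylowCount.card_sylow_subgroup P (hPY.trans hYX)]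
    refine Nat.card_congr (Equiv.subtypeEquivRight fun Q => ⟨fun h => ?_, fun h => ((hsylY Q).1 h).trans hYX⟩)
    intro d hd
    have hsup : IsPGroup 5 ↥((Q : Subgroup G) ⊔ D) :=
      Q.isPGroup'.to_sup_of_normal_right' (P.isPGroup'.to_le hDP) h
    exact (Q.3 hsup le_sup_left).le (Subgroup.mem_sup_right hd)
  have hn1 : n ≠ 1 := hne1 ⟨R₁, hR₁, hR₁Y.trans hYX⟩
  have hn21 : n < 21 := by
    rw [hnX, ← hn]
    refine lt_of_le_of_ne (Nat.card_le_card_of_injective Subtype.val Subtype.val_injective) fun h => hD1 ?_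
    rw [Subgroup.eq_bot_iff_forall]
    intro d hd
    refine hfaith d fun R => ?_
    obtain ⟨⟨Q, hQ⟩, hQR⟩ : ∃ Q : {Q : Sylow 5 G // D ≤ (Q : Subgroup G)}, Q.1 = R :=
      ((Nat.bijective_iff_injective_and_card _).2 ⟨Subtype.val_injective, h⟩).2 R
    subst hQR
    exact (hst P _ d (hDP hd)).2 (hQ hd)
  -- the conjugates of `D` under `N(P)`
  set N := Subgroup.normalizer ((P : Subgroup G) : Set G)
  set o := (X.subgroupOf N).index with ho
  have hoIm : o ≤ Im.card := by
    rw [ho, Subgroup.index_eq_card, ← Nat.card_eq_finsetCard]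
    have hwell : ∀ g : N, MulAut.conj (g : G) • D ∈ Im := by
      intro g
      refine Finset.mem_image.2 ⟨(g : G) • R₁, Finset.mem_erase.2 ⟨?_, Finset.mem_univ _⟩, ?_⟩
      · intro h
        apply hR₁
        rw [← inv_smul_smul (g : G) R₁, h]
        exact Sylow.smul_eq_iff_mem_normalizer.2 (inv_mem g.2)
      · rw [hDdef]
        simp only [F, Subgroup.smul_inf]
        congr 1
        exact (congrArg Sylow.toSubgroup (Sylow.smul_eq_iff_mem_normalizer.2 g.2 : (g : G) • P = P)).symm
    refine Nat.card_le_card_of_injective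
      (fun c => (⟨MulAut.conj ((c.out : N) : G) • D, hwell _⟩ : Im)) ?_
    intro c d h
    have h' : MulAut.conj ((c.out : N) : G) • D = MulAut.conj ((d.out : N) : G) • D :=
      congrArg Subtype.val h
    rw [← QuotientGroup.out_eq' c, ← QuotientGroup.out_eq' d, QuotientGroup.eq, Subgroup.mem_subgroupOf]
    show (((c.out)⁻¹ * d.out : N) : G) ∈ Subgroup.normalizer (D : Set G)
    rw [Subgroup.mem_normalizer_iff_map_conj_eq]
    show MulAut.conj (((c.out)⁻¹ * d.out : N) : G) • D = D
    rw [Subgroup.coe_mul, Subgroup.coe_inv, map_mul, map_inv, mul_smul, ← h', inv_smul_smul]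
  have hXidx : X.index * n = 21 * o := by
    have h1 := Subgroup.card_mul_index X
    have h2 := card_sylow_mul_card_normalizer P
    have h3 := Subgroup.card_mul_index (X.subgroupOf N)
    have h4 : Nat.card (X.subgroupOf N) = Nat.card ↥(N ⊓ X) := by
      rw [← Subgroup.inf_subgroupOf_left]
      exact Nat.card_congr (Subgroup.subgroupOfEquivOfLe inf_le_left).toEquiv
    rw [hn] at h2
    change 21 * Nat.card ↥N = _ at h2
    rw [h4, ← ho] at h3
    rw [hXcard, ← h2, ← h3] at h1
    refine Nat.eq_of_mul_eq_mul_left (Nat.card_pos (α := ↥(N ⊓ X))) ?_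
    linarith
  have ho0 : 0 < o := Nat.pos_of_ne_zero Subgroup.index_ne_zero_of_finite
  have hn6 : n = 6 ∧ (X.index = 7 ∨ (X.index = 14 ∧ o = 4)) := by
    have ho4 : o ≤ 4 := by omega
    rcases (show n = 6 ∨ n = 11 ∨ n = 16 by omega) with rfl | rfl | rfl
    · refine ⟨rfl, ?_⟩; omega
    · omega
    · omega
  obtain ⟨hn6, hcases⟩ := hn6
  have h25G : 25 ∣ Nat.card G := hbig.trans (Subgroup.card_subgroup_dvd_card _)
  have hfac := two_mul_card_dvd_factorial_index hG X hXtop
  rcases hcases with h | ⟨h, ho4⟩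
  · rw [h] at hfac
    exact absurd (h25G.trans ((dvd_mul_left _ 2).trans hfac)) (by decide)
  rw [h] at hfac
  have hP25 : Nat.card P = 25 := by
    obtain ⟨j, hj⟩ := P.isPGroup'.exists_card_eq
    have h1 : 5 ^ j ∣ Nat.factorial 14 :=
      (hj ▸ Subgroup.card_subgroup_dvd_card (P : Subgroup G)).trans ((dvd_mul_left _ 2).trans hfac)
    rw [hj] at hbig ⊢
    have hj2 : 2 ≤ j := by
      by_contra h2
      interval_cases j <;> norm_num at hbig
    rcases (show j = 2 ∨ 3 ≤ j by omega) with rfl | h3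
    · norm_num
    · exact absurd ((pow_dvd_pow 5 h3).trans h1) (by decide)
  have hImcard : Im.card = 4 := by omega
  have hexact : ∀ E ∈ Im, ((Finset.univ.erase P).filter fun R => F R = E).card = 5 := by
    intro E hE
    by_contra hne
    have := Finset.sum_lt_sum hfib ⟨E, hE, lt_of_le_of_ne (hfib E hE) (Ne.symm hne)⟩
    rw [hsum, Finset.sum_const, hImcard] at this
    norm_num at this
  have hDcard : Nat.card D = 5 := by have := hFsub R₁ hR₁; rw [← hDdef] at this; omega
  -- the fifteen remaining Sylow subgroups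
  set W : Set (Sylow 5 G) := {Q | ¬ D ≤ (Q : Subgroup G)} with hW
  have hWcard : Nat.card W = 15 := by
    have h1 := Nat.card_congr (Equiv.sumCompl fun Q : Sylow 5 G => D ≤ (Q : Subgroup G))
    rw [Nat.card_sum, ← hnX, hn6, hn] at h1
    have : Nat.card W = Nat.card {Q : Sylow 5 G // ¬ D ≤ (Q : Subgroup G)} := rfl
    omega
  have hYW : ∀ y : ↥Y, ∀ Q : Sylow 5 G, D ≤ ((y • Q : Sylow 5 G) : Subgroup G) ↔ D ≤ (Q : Subgroup G) := by
    have key : ∀ y : G, y ∈ Y → ∀ Q : Sylow 5 G, D ≤ (Q : Subgroup G) →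
        D ≤ ((y • Q : Sylow 5 G) : Subgroup G) := by
      intro y hy Q hQ d hd
      refine ⟨d, hQ hd, ?_⟩
      show MulAut.conj y d = d
      rw [MulAut.conj_apply, ← Subgroup.mem_centralizer_iff.1 hy d hd, mul_inv_cancel_right]
    intro y Q
    refine ⟨fun h => ?_, key y y.2 Q⟩
    have := key (y⁻¹ : ↥Y) (y⁻¹).2 _ h
    rwa [Subgroup.coe_inv, Subgroup.smul_def, inv_smul_smul] at this
  letI : MulAction ↥Y W :=
    { smul := fun y Q => ⟨y • Q.1, fun h => Q.2 ((hYW y Q.1).1 h)⟩
      one_smul := fun Q => Subtype.ext (one_smul _ Q.1)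
      mul_smul := fun a b Q => Subtype.ext (mul_smul a b Q.1) }
  obtain ⟨d, hd⟩ := exists_prime_orderOf_dvd_card' (G := ↥D) 5 (by rw [hDcard])
  have hdne : (d : G) ≠ 1 := fun h => by
    have : d = 1 := Subtype.ext h
    rw [this, orderOf_one] at hd
    norm_num at hd
  have hdY : (d : G) ∈ Y := hPY (hDP d.2)
  have hdz : Subgroup.zpowers (d : G) = D := eq_zpowers_of_mem_prime hDcard d.2 hdne
  set ψ := MulAction.toPermHom ↥Y W
  have hfix : ∀ Q : W, (d : G) • Q.1 ≠ Q.1 := by
    intro Q hQ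
    by_cases hQP : Q.1 = P
    · exact Q.2 (hQP ▸ hDP)
    · refine Q.2 ?_
      rw [← hdz, Subgroup.zpowers_le]
      exact (hst P Q.1 (d : G) (hDP d.2)).1 hQ
  have hd5 : (⟨d, hdY⟩ : ↥Y) ^ 5 = 1 := by
    apply Subtype.ext
    show (d : G) ^ 5 = 1
    rw [← SubgroupClass.coe_pow, ← hd, pow_orderOf_eq_one]; rfl
  refine card_sylow_ne_six_of_commute hWcard (ψ ⟨d, hdY⟩)
    (fun Q hQ => hfix Q (congrArg Subtype.val hQ :))
    (by rw [← map_pow, hd5, map_one]) ψ.range ?_ ?_
  · rintro _ ⟨y, rfl⟩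
    have : Commute y ⟨d, hdY⟩ := Subtype.ext (Subgroup.mem_centralizer_iff.1 y.2 d d.2).symm
    exact this.map ψ
  · -- the kernel on `W` has order prime to five
    have hL5 : ¬ 5 ∣ Nat.card ψ.ker := by
      intro hdvd
      obtain ⟨z₀, hz₀⟩ := exists_prime_orderOf_dvd_card' (G := ψ.ker) 5 hdvd
      have hz : orderOf ((z₀ : ↥Y) : G) = 5 := by rw [Subgroup.orderOf_coe, Subgroup.orderOf_coe]; exact hz₀
      obtain ⟨Q, hQ⟩ := (IsPGroup.of_card (n := 1) (by rw [Nat.card_zpowers, hz, pow_one]) :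
        IsPGroup 5 ↥(Subgroup.zpowers ((z₀ : ↥Y) : G))).exists_le_sylow
      -- move it into `P`
      obtain ⟨P₀, hP₀⟩ := (IsPGroup.of_card (n := 1) (by
          rw [Nat.card_zpowers, Subgroup.orderOf_coe, hz₀, pow_one]) :
        IsPGroup 5 ↥(Subgroup.zpowers (z₀ : ↥Y))).exists_le_sylow
      obtain ⟨g, hg⟩ := MulAction.exists_smul_eq ↥Y P₀ (P.subtype hPY)
      have hmemker : g * z₀ * g⁻¹ ∈ ψ.ker := (MonoidHom.normal_ker ψ).conj_mem _ z₀.2 g
      have hgP : ((g * z₀ * g⁻¹ : ↥Y) : G) ∈ (P : Subgroup G) := by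
        have h1 : MulAut.conj g (z₀ : ↥Y) ∈ ((g • P₀ : Sylow 5 ↥Y) : Subgroup ↥Y) :=
          ⟨_, hP₀ (Subgroup.mem_zpowers _), rfl⟩
        rw [hg] at h1
        exact Subgroup.mem_subgroupOf.1 h1
      set z := ((g * z₀ * g⁻¹ : ↥Y) : G)
      have hz1 : z ≠ 1 := fun h => by
        have h' : g * (z₀ : ↥Y) * g⁻¹ = 1 := Subtype.ext h
        rw [conj_eq_one_iff] at h'
        rw [h', Subgroup.coe_one, orderOf_one] at hz
        norm_num at hz
      have hzW : ∀ R : Sylow 5 G, R ∈ W → z ∈ (R : Subgroup G) := by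
        intro R hR
        refine (hst P R z hgP).1 ?_
        exact congrArg Subtype.val (DFunLike.congr_fun (MonoidHom.mem_ker.1 hmemker) (⟨R, hR⟩ : W) :)
      obtain ⟨R, hR, hRD⟩ : ∃ R ∈ Finset.univ.erase P, F R ≠ D := by
        by_contra hcon
        push Not at hcon
        have : Im ⊆ {D} := fun E hE => by
          obtain ⟨R, hR, rfl⟩ := Finset.mem_image.1 hE
          exact Finset.mem_singleton.2 (hcon R hR)
        have := Finset.card_le_card this
        rw [hImcard, Finset.card_singleton] at this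
        omega
      have hRW : R ∈ W := fun h => hRD (by
        have h1 := hFsub R (Finset.ne_of_mem_erase hR)
        refine (Subgroup.eq_of_le_of_card_ge (le_inf hDP h) ?_).symm
        show Nat.card ↥(F R) ≤ Nat.card D
        omega)
      obtain ⟨R', hR', hR'D⟩ : ∃ R' ∈ Finset.univ.erase P, F R' ≠ D ∧ F R' ≠ F R := by
        by_contra hcon
        push Not at hcon
        have : Im ⊆ {D, F R} := fun E hE => by
          obtain ⟨S, hS, rfl⟩ := Finset.mem_image.1 hE
          by_cases h : F S = D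
          · simp [h]
          · simp [hcon S hS h]
        have h2 := (Finset.card_le_card this).trans Finset.card_le_two
        omega
      have hR'W : R' ∈ W := fun h => hR'D.1 (by
        have h1 := hFsub R' (Finset.ne_of_mem_erase hR')
        refine (Subgroup.eq_of_le_of_card_ge (le_inf hDP h) ?_).symm
        show Nat.card ↥(F R') ≤ Nat.card D
        omega)
      apply hR'D.2
      have c1 : Nat.card ↥(F R) = 5 := by have := hFsub R (Finset.ne_of_mem_erase hR); omega
      have c2 : Nat.card ↥(F R') = 5 := by have := hFsub R' (Finset.ne_of_mem_erase hR'); omega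
      rw [← eq_zpowers_of_mem_prime c2 ⟨hgP, hzW R' hR'W⟩ hz1,
        ← eq_zpowers_of_mem_prime c1 ⟨hgP, hzW R hRW⟩ hz1]
    obtain ⟨c, hcdvd, hc, hparts⟩ := SylowNumber.card_sylow_eq (p := 5) ψ.ker
    rw [hn', ← hnX, hn6] at hc
    have hL1 : Nat.card (Sylow 5 ψ.ker) = 1 := by
      rw [Nat.card_eq_one_iff_unique]
      refine ⟨⟨fun Q R => Sylow.ext ?_⟩, inferInstance⟩
      have hbot : ∀ Q : Sylow 5 ψ.ker, (Q : Subgroup ψ.ker) = ⊥ := fun Q => by
        rw [← Subgroup.card_eq_one]
        obtain ⟨j, hj⟩ := Q.isPGroup'.exists_card_eq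
        rcases Nat.eq_zero_or_pos j with rfl | hj0
        · simpa using hj
        · exact absurd ((dvd_pow_self 5 hj0.ne').trans (hj ▸ Subgroup.card_subgroup_dvd_card _)) hL5
      rw [hbot Q, hbot R]
    rw [hL1, mul_one] at hc
    have hc1 : c = 1 := by
      have hd : c ∣ 6 := Dvd.intro_left _ hc.symm
      have hall : ∀ c ≤ 6, c ∣ 6 → c = 1 ∨ c = 2 ∨ c = 3 ∨ c = 6 := by decide
      have h2 := hparts 2 Nat.prime_two
      have h3 := hparts 3 Nat.prime_three
      rcases hall c (Nat.le_of_dvd (by norm_num) hd) hd with h | h | h | h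
      · exact h
      · rw [h] at h2; simp [Nat.Prime.factorization, Nat.prime_two, Nat.ModEq] at h2
      · rw [h] at h3; simp [Nat.Prime.factorization, Nat.prime_three, Nat.ModEq] at h3
      · rw [h, show (6 : ℕ) = 2 * 3 by norm_num, Nat.factorization_mul (by norm_num) (by norm_num)] at h2
        simp [Nat.Prime.factorization, Nat.prime_two, Nat.prime_three, Nat.ModEq] at h2
    rw [hc1, mul_one] at hc
    rw [SylowCount.card_sylow_of_ker_le_normalizer
      (f := (QuotientGroup.quotientKerEquivRange ψ).toMonoidHom) (QuotientGroup.quotientKerEquivRange ψ).surjective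
      fun Q => le_of_eq_of_le
        ((MonoidHom.ker_eq_bot_iff _).2 (QuotientGroup.quotientKerEquivRange ψ).injective) bot_le]
    exact hc.symm

end CfsgLib.Small.TwentyOne
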