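import Cfsg.Agent.Small.TwentyOne.SmallSylow

/-!
# Twenty-one Sylow 5-subgroups of order five: the case analysis
-/

open scoped Pointwise

namespace CfsgLib.Small.TwentyOne

variable {G : Type*} [Group G] [Finite G]

/-- The conjugates of `y` under `H`, counted by the centraliser. -/
theorem card_conj_mul_card_inf (H : Subgroup G) (y : G) :
    Nat.card {h : G // ∃ g ∈ H, g * y * g⁻¹ = h}
      * Nat.card ↥(H ⊓ Subgroup.centralizer ({y} : Set G)) = Nat.card H := by
  set L := (Subgroup.centralizer ({y} : Set G)).subgroupOf H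
  have hL : Nat.card L = Nat.card ↥(H ⊓ Subgroup.centralizer ({y} : Set G)) := by
    rw [← Nat.card_congr (Subgroup.subgroupOfEquivOfLe
      (inf_le_left : H ⊓ Subgroup.centralizer ({y} : Set G) ≤ H)).toEquiv]
    refine Nat.card_congr (Equiv.subtypeEquivRight fun x => ?_)
    simp [L, Subgroup.mem_subgroupOf]
  rw [← hL, ← Subgroup.index_mul_card L, Subgroup.index_eq_card]
  congr 1
  have key : ∀ g g' : ↥H, g⁻¹ * g' ∈ L ↔ (g : G) * y * (g : G)⁻¹ = g' * y * (g' : G)⁻¹ := by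
    intro g g'
    rw [Subgroup.mem_subgroupOf, Subgroup.mem_centralizer_singleton_iff, Subgroup.coe_mul,
      InvMemClass.coe_inv]
    constructor
    · intro h
      calc (g : G) * y * (g : G)⁻¹ = g * (y * ((g : G)⁻¹ * g')) * (g' : G)⁻¹ := by group
        _ = g * ((g : G)⁻¹ * g' * y) * (g' : G)⁻¹ := by rw [h]
        _ = g' * y * (g' : G)⁻¹ := by group
    · intro h
      calc (g : G)⁻¹ * g' * y = (g : G)⁻¹ * (g' * y * (g' : G)⁻¹) * g' := by group
        _ = (g : G)⁻¹ * (g * y * (g : G)⁻¹) * g' := by rw [h]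
        _ = y * ((g : G)⁻¹ * g') := by group
  refine (Nat.card_congr (Equiv.ofBijective (Quotient.lift
    (fun g : ↥H => (⟨(g : G) * y * (g : G)⁻¹, g, g.2, rfl⟩ : {h : G // ∃ g ∈ H, g * y * g⁻¹ = h}))
    fun g g' h => Subtype.ext ((key g g').1 (QuotientGroup.leftRel_apply.1 h))) ⟨?_, ?_⟩)).symm
  · intro c d h
    induction c using Quotient.inductionOn with
    | _ g =>
      induction d using Quotient.inductionOn with
      | _ g' =>
        exact QuotientGroup.eq.2 ((key g g').2 (congrArg Subtype.val h :))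
  · rintro ⟨h, g, hg, rfl⟩
    exact ⟨Quotient.mk'' ⟨g, hg⟩, rfl⟩

/-- If `a` normalises `⟨t⟩`, the fixed points of `t` are congruent to the common fixed points modulo
the prime of `a`. -/
theorem card_fixedBy_modEq_inter_normalizer {q k : ℕ} [Fact q.Prime] (H : Subgroup G) {t a : G}
    (hn : a ∈ Subgroup.normalizer (Subgroup.zpowers t : Set G)) (ha : a ^ q ^ k = 1) :
    Nat.card (MulAction.fixedBy (G ⧸ H) t) % q
      = Nat.card {c : G ⧸ H // t • c = c ∧ a • c = c} % q := by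
  have hX : IsPGroup q ↥(Subgroup.zpowers a) := by
    intro y
    refine ⟨k, Subtype.ext ?_⟩
    obtain ⟨j, hj⟩ := y.2
    simp only [SubgroupClass.coe_pow, OneMemClass.coe_one, ← hj]
    rw [← zpow_natCast, ← zpow_mul, mul_comm, zpow_mul, zpow_natCast, ha, one_zpow]
  let A : SubMulAction ↥(Subgroup.zpowers a) (G ⧸ H) :=
    { carrier := MulAction.fixedBy (G ⧸ H) t
      smul_mem' := fun c r hr => by
        show t • (c : G) • r = (c : G) • r
        obtain ⟨j, hj⟩ := (Subgroup.mem_normalizer_iff''.1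
          ((Subgroup.zpowers_le.2 hn) c.2) t).1 (Subgroup.mem_zpowers t)
        change t ^ j = (c : G)⁻¹ * t * (c : G) at hj
        calc t • (c : G) • r = (c : G) • (t ^ j) • r := by
              rw [smul_smul, smul_smul, hj]; group
          _ = (c : G) • r := congrArg _ ((MulAction.stabilizer G r).zpow_mem hr j) }
  refine Eq.trans (hX.card_modEq_card_fixedPoints (α := A)) ?_
  congr 1
  refine Nat.card_congr
    { toFun := fun c => ⟨c.1.1, c.1.2, congrArg Subtype.val (c.2 ⟨a, Subgroup.mem_zpowers a⟩)⟩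
      invFun := fun c => ⟨⟨c.1, c.2.1⟩, fun d => Subtype.ext ?_⟩
      left_inv := fun _ => rfl
      right_inv := fun _ => rfl }
  obtain ⟨j, hj⟩ := d.2
  show (d : G) • c.1 = c.1
  rw [← hj]
  exact (MulAction.stabilizer G c.1).zpow_mem c.2.2 j

omit [Finite G] in
/-- An element of order three in a cyclic group generated by `y`. -/
theorem eq_or_eq_inv_of_mem_zpowers {y z : G} (hy : orderOf y = 3) (hz : z ∈ Subgroup.zpowers y)
    (hz1 : z ≠ 1) : z = y ∨ z = y⁻¹ := by
  have hy3 : y ^ 3 = 1 := orderOf_dvd_iff_pow_eq_one.1 (dvd_of_eq hy)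
  obtain ⟨j, rfl⟩ := hz
  change y ^ j = y ∨ y ^ j = y⁻¹
  change y ^ j ≠ 1 at hz1
  rw [← zpow_mod_orderOf, hy] at hz1 ⊢
  rcases (show j % ((3 : ℕ) : ℤ) = 0 ∨ j % ((3 : ℕ) : ℤ) = 1 ∨ j % ((3 : ℕ) : ℤ) = 2 by omega)
    with h | h | h <;> rw [h] at hz1 ⊢
  · exact absurd (zpow_zero y) hz1
  · exact Or.inl (zpow_one y)
  · refine Or.inr (eq_inv_of_mul_eq_one_left ?_)
    rw [← zpow_add_one, show (2 : ℤ) + 1 = ((3 : ℕ) : ℤ) from rfl, zpow_natCast, hy3]

/-- A permutation of order four moving eighteen points, sixteen of them still moved by its square,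
is odd. -/
theorem sign_eq_neg_one {α : Type*} [Fintype α] [DecidableEq α] {σ : Equiv.Perm α}
    (h4 : σ ^ 4 = 1) (h18 : σ.support.card = 18) (h16 : (σ ^ 2).support.card = 16) :
    Equiv.Perm.sign σ = -1 := by
  have hmem : ∀ n ∈ σ.cycleType, n = 2 ∨ n = 4 := fun n hn => by
    have h2 := Equiv.Perm.two_le_of_mem_cycleType hn
    have hd : n ∣ 4 := (Equiv.Perm.dvd_of_mem_cycleType hn).trans (orderOf_dvd_of_pow_eq_one h4)
    have := Nat.le_of_dvd (by norm_num) hd
    interval_cases n <;> omega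
  set s := σ.cycleFactorsFinset.filter fun c => c.support.card = 2 with hs
  have hs1 : s.card ≤ 1 := by
    by_contra h
    obtain ⟨c, hc, d, hd, hne⟩ := Finset.one_lt_card.1 (not_le.1 h)
    rw [hs, Finset.mem_filter] at hc hd
    have hsub : ∀ c, c ∈ σ.cycleFactorsFinset → c.support.card = 2 →
        c.support ⊆ σ.support \ (σ ^ 2).support := fun c hc hc2 x hx => by
      obtain ⟨hcyc, hag⟩ := Equiv.Perm.mem_cycleFactorsFinset_iff.1 hc
      have hcx := Equiv.Perm.apply_mem_support.2 hx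
      have hsq : c ^ 2 = 1 := orderOf_dvd_iff_pow_eq_one.1 (dvd_of_eq (hcyc.orderOf.trans hc2))
      rw [Finset.mem_sdiff]
      refine ⟨Equiv.Perm.mem_cycleFactorsFinset_support_le hc hx, ?_⟩
      rw [Equiv.Perm.mem_support, not_not, pow_two, Equiv.Perm.mul_apply, ← hag x hx,
        ← hag _ hcx, ← Equiv.Perm.mul_apply, ← pow_two, hsq, Equiv.Perm.one_apply]
    have hdis : Disjoint c.support d.support :=
      ((Equiv.Perm.cycleFactorsFinset_pairwise_disjoint σ) hc.1 hd.1 hne).disjoint_support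
    have h' := Finset.card_le_card
      (Finset.union_subset (hsub c hc.1 hc.2) (hsub d hd.1 hd.2))
    rw [Finset.card_union_of_disjoint hdis, hc.2, hd.2,
      Finset.card_sdiff_of_subset (Equiv.Perm.support_pow_le σ 2), h18, h16] at h'
    omega
  have hcount : (σ.cycleType.filter (· = 2)).card = s.card := by
    rw [Equiv.Perm.cycleType_def, Multiset.filter_map, Multiset.card_map]
    rfl
  have hsplit := Multiset.filter_add_not (· = 2) σ.cycleType
  have h2 : σ.cycleType.filter (· = 2)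
      = Multiset.replicate (σ.cycleType.filter (· = 2)).card 2 :=
    Multiset.eq_replicate_card.2 fun n hn => (Multiset.mem_filter.1 hn).2
  have h4' : σ.cycleType.filter (¬ · = 2)
      = Multiset.replicate (σ.cycleType.filter (¬ · = 2)).card 4 :=
    Multiset.eq_replicate_card.2 fun n hn =>
      (hmem n (Multiset.mem_filter.1 hn).1).resolve_left (Multiset.mem_filter.1 hn).2
  have hsum : σ.cycleType.sum = 18 := by rw [Equiv.Perm.sum_cycleType]; exact h18
  rw [← hsplit, h2, h4', Multiset.sum_add, Multiset.sum_replicate, Multiset.sum_replicate,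
    smul_eq_mul, smul_eq_mul, hcount] at hsum
  have hb : (σ.cycleType.filter (¬ · = 2)).card = 4 := by omega
  have ha : s.card = 1 := by omega
  rw [Equiv.Perm.sign_of_cycleType, Equiv.Perm.sum_cycleType, h18,
    ← hsplit, Multiset.card_add, hcount, ha, hb]
  decide

variable [Fact (Nat.Prime 5)]

namespace Setting

variable (S : Setting G)

theorem conj_mem_C {g z : G} (hg : g ∈ S.N) (hz : z ∈ S.C) : g * z * g⁻¹ ∈ S.C := by
  rw [Setting.C, Subgroup.mem_centralizer_iff]
  intro b hb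
  have h := Subgroup.mem_centralizer_iff.1 hz (g⁻¹ * b * g)
    ((Subgroup.mem_normalizer_iff''.1 hg b).1 hb)
  calc b * (g * z * g⁻¹) = g * ((g⁻¹ * b * g) * z) * g⁻¹ := by group
    _ = g * (z * (g⁻¹ * b * g)) * g⁻¹ := by rw [h]
    _ = g * z * g⁻¹ * b := by group

/-- The base coset. -/
theorem smul_base {g : G} (hg : g ∈ S.N) : g • ((1 : G) : G ⧸ S.N) = ((1 : G) : G ⧸ S.N) := by
  show ((g * 1 : G) : G ⧸ S.N) = _
  rw [mul_one, QuotientGroup.eq, mul_one]
  exact inv_mem hg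

/-- A nontrivial element of `P` fixes the base coset only. -/
theorem eq_one_of_smul_eq {p : G} (hp : p ∈ (S.P : Subgroup G)) {c : G ⧸ S.N}
    (hc : c ≠ ((1 : G) : G ⧸ S.N)) (h : p • c = c) : p = 1 := by
  by_contra h1
  have h' := (Nat.card_eq_one_iff_unique.1
    (card_fixedBy_coset_normalizer S.P S.card_P (orderOf_eq_of_mem_prime S.card_P hp h1))).1
  exact hc (congrArg Subtype.val (h'.elim (⟨c, h⟩ : MulAction.fixedBy (G ⧸ S.N) p)
    ⟨((1 : G) : G ⧸ S.N), S.smul_base (Subgroup.le_normalizer hp)⟩) :)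

/-- An element of `N ∖ C` fixes at most one coset in each orbit of `P`. -/
theorem fixed_off {u : G} (hu : u ∈ S.N) (huC : u ∉ S.C) :
    Nat.card (MulAction.fixedBy (G ⧸ S.N) u) ≤ 5 ∧
      (Nat.card (MulAction.fixedBy (G ⧸ S.N) u) = 5 →
        ∀ c : G ⧸ S.N, ∃ p ∈ (S.P : Subgroup G), ∃ d : G ⧸ S.N, u • d = d ∧ p • d = c) := by
  classical
  set b := ((1 : G) : G ⧸ S.N)
  let D := {d : G ⧸ S.N // u • d = d ∧ d ≠ b}
  let ψ : ↥(S.P : Subgroup G) × D → {c : G ⧸ S.N // c ≠ b} := fun x =>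
    ⟨(x.1 : G) • x.2.1, fun h => x.2.2.2 ((MulAction.injective (x.1 : G))
      (h.trans (S.smul_base (Subgroup.le_normalizer x.1.2)).symm))⟩
  have hinj : Function.Injective ψ := by
    rintro ⟨p, d⟩ ⟨p', d'⟩ h
    have h' : (p : G) • d.1 = (p' : G) • d'.1 := congrArg Subtype.val h
    set q : G := (p' : G)⁻¹ * p with hq
    have hqd : q • d.1 = d'.1 := by rw [hq, ← smul_smul, h', inv_smul_smul]
    have hqP : q ∈ (S.P : Subgroup G) := mul_mem (inv_mem p'.2) p.2
    have hcq : u * q * u⁻¹ ∈ (S.P : Subgroup G) := (Subgroup.mem_normalizer_iff.1 hu q).1 hqP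
    have hud : u⁻¹ • d.1 = d.1 := by rw [inv_smul_eq_iff, d.2.1]
    have hfix : (q⁻¹ * (u * q * u⁻¹)) • d.1 = d.1 := by
      rw [← smul_smul, ← smul_smul, ← smul_smul, hud, hqd, d'.2.1, inv_smul_eq_iff, hqd]
    have hcomm : u * q * u⁻¹ = q :=
      (inv_mul_eq_one.1 (S.eq_one_of_smul_eq (mul_mem (inv_mem hqP) hcq) d.2.2 hfix)).symm
    have hq1 : q = 1 := by
      by_contra h1
      refine huC ?_
      show u ∈ Subgroup.centralizer ((S.P : Subgroup G) : Set G)
      rw [← centralizer_singleton_eq_of_prime S.card_P hqP h1, Subgroup.mem_centralizer_singleton_iff]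
      exact mul_inv_eq_iff_eq_mul.1 hcomm
    rw [hq1, one_smul] at hqd
    refine Prod.ext (Subtype.ext ?_) (Subtype.ext hqd)
    exact (inv_mul_eq_one.1 (hq.symm.trans hq1)).symm
  have hcb : Nat.card {c : G ⧸ S.N // c ≠ b} = 20 := by
    have h : Nat.card (G ⧸ S.N) = 21 := by rw [← Subgroup.index_eq_card, S.index_N]
    haveI := Fintype.ofFinite (G ⧸ S.N)
    rw [Nat.card_eq_fintype_card, Fintype.card_subtype_compl, Fintype.card_subtype_eq,
      ← Nat.card_eq_fintype_card, h]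
  have hD : Nat.card (MulAction.fixedBy (G ⧸ S.N) u) = Nat.card D + 1 := by
    haveI := Fintype.ofFinite (MulAction.fixedBy (G ⧸ S.N) u)
    let e : D ≃ {d : MulAction.fixedBy (G ⧸ S.N) u // d ≠ ⟨b, S.smul_base hu⟩} :=
      { toFun := fun d => ⟨⟨d.1, d.2.1⟩, fun h => d.2.2 (congrArg Subtype.val h :)⟩
        invFun := fun d => ⟨d.1.1, d.1.2, fun h => d.2 (Subtype.ext h)⟩
        left_inv := fun _ => rfl
        right_inv := fun _ => rfl }
    rw [Nat.card_congr e, Nat.card_eq_fintype_card, Nat.card_eq_fintype_card,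
      Fintype.card_subtype_compl, Fintype.card_subtype_eq]
    have : 0 < Fintype.card (MulAction.fixedBy (G ⧸ S.N) u) :=
      Fintype.card_pos_iff.2 ⟨⟨b, S.smul_base hu⟩⟩
    omega
  have hle := Nat.card_le_card_of_injective ψ hinj
  rw [Nat.card_prod, S.card_P, hcb] at hle
  refine ⟨by omega, fun h5 c => ?_⟩
  by_cases hc : c = b
  · exact ⟨1, one_mem _, b, S.smul_base hu, hc ▸ one_smul _ _⟩
  · have hbij := hinj.bijective_of_nat_card_le (by rw [Nat.card_prod, S.card_P, hcb]; omega)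
    obtain ⟨⟨p, d⟩, hpd⟩ := hbij.2 ⟨c, hc⟩
    exact ⟨p, p.2, d.1, d.2.1, congrArg Subtype.val hpd⟩

theorem commute_P {y p : G} (hy : y ∈ S.C) (hp : p ∈ (S.P : Subgroup G)) : Commute y p :=
  (Subgroup.mem_centralizer_iff.1 hy p hp).symm

variable [IsSimpleGroup G]

theorem fixed_three {y : G} (hy : y ∈ S.C) (hy3 : orderOf y = 3) :
    Nat.card (MulAction.fixedBy (G ⧸ S.N) y) = 6 := by
  haveI : Fact (Nat.Prime 3) := ⟨by norm_num⟩
  have hy1 : y ≠ 1 := fun h => by rw [h, orderOf_one] at hy3; omega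
  have h5 := S.fixed_mod hy
  have h21 := S.fixed_lt hy1
  have h3 := card_fixedBy_modEq_index (q := 3) (k := 1) S.N (x := y)
    (by rw [pow_one]; exact orderOf_dvd_iff_pow_eq_one.1 (dvd_of_eq hy3))
  rw [S.index_N] at h3
  omega

/-- No element of `N ∖ C` inverting `y` fixes five cosets. -/
theorem false_of_five_fixed {y u : G} (hy : y ∈ S.C) (hy3 : orderOf y = 3) (hu : u ∈ S.N)
    (huC : u ∉ S.C) (hinv : u * y * u⁻¹ = y⁻¹)
    (h5 : Nat.card (MulAction.fixedBy (G ⧸ S.N) u) = 5) : False := by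
  have hy3' : y ^ 3 = 1 := orderOf_dvd_iff_pow_eq_one.1 (dvd_of_eq hy3)
  have hy1 : y ≠ 1 := fun h => by rw [h, orderOf_one] at hy3; omega
  have hcover := (S.fixed_off hu huC).2 h5
  have hfix : ∀ d : G ⧸ S.N, u • d = d → y • d = d := by
    intro d hd
    by_cases hdb : d = ((1 : G) : G ⧸ S.N)
    · rw [hdb]; exact S.smul_base (S.C_le_N hy)
    obtain ⟨p, hp, d', hd', hpd⟩ := hcover (y • d)
    set q := u * p * u⁻¹ * p⁻¹
    have hq : q ∈ (S.P : Subgroup G) :=
      mul_mem ((Subgroup.mem_normalizer_iff.1 hu p).1 hp) (inv_mem hp)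
    have h1 : y⁻¹ • d = q • (y • d) := by
      calc y⁻¹ • d = (u * y * u⁻¹) • d := by rw [hinv]
        _ = u • y • u⁻¹ • d := by rw [← smul_smul, ← smul_smul]
        _ = u • p • d' := by rw [inv_smul_eq_iff.2 hd.symm, hpd]
        _ = (u * p * u⁻¹ * p⁻¹) • p • d' := by
          rw [← smul_smul, ← smul_smul, ← smul_smul, inv_smul_smul, inv_smul_eq_iff.2 hd'.symm]
        _ = q • (y • d) := by rw [hpd]
    have hcy : Commute y q := S.commute_P hy hq
    have h2 : q • d = y • d := by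
      have h := congrArg (fun c => y⁻¹ • c) h1
      simp only [smul_smul] at h
      rw [← mul_assoc, (hcy.inv_left).eq, mul_assoc, inv_mul_cancel, mul_one] at h
      rw [← h]
      congr 1
      calc y⁻¹ * y⁻¹ = y⁻¹ * y⁻¹ * y ^ 3 := by rw [hy3', mul_one]
        _ = y := by group
    have h3 : ∀ n : ℕ, (q ^ n) • d = (y ^ n) • d := by
      intro n
      induction n with
      | zero => simp
      | succ n ih =>
        rw [pow_succ', pow_succ, mul_smul, ih, smul_smul, (hcy.symm.pow_right n).eq, mul_smul, h2,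
          smul_smul]
    have hq3 := S.eq_one_of_smul_eq (pow_mem hq 3) hdb (by rw [h3 3, hy3', one_smul])
    have hq5 : q ^ 5 = 1 :=
      orderOf_dvd_iff_pow_eq_one.1 (S.card_P ▸ Subgroup.orderOf_dvd_natCard _ hq)
    have hq1 : q = 1 := by
      calc q = (q ^ 3) ^ 2 * (q ^ 5)⁻¹ := by group
        _ = 1 := by rw [hq3, hq5]; simp
    rw [← h2, hq1, one_smul]
  have hall : ∀ c : G ⧸ S.N, y • c = c := by
    intro c
    obtain ⟨p, hp, d, hd, rfl⟩ := hcover c
    rw [smul_smul, (S.commute_P hy hp).eq, mul_smul, hfix d hd]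
  have h := S.fixed_lt hy1
  rw [Nat.card_congr (Equiv.subtypeUnivEquiv (p := fun c => c ∈ MulAction.fixedBy (G ⧸ S.N) y) hall),
    ← Subgroup.index_eq_card, S.index_N] at h
  omega

/-- An element of `C` of order three commuting with `y` is a power of `y`. -/
theorem mem_zpowers_of_commute (hG : ¬ IsMulCommutative G) {y z : G} (hy : y ∈ S.C)
    (hy3 : orderOf y = 3) (hz : z ∈ S.C) (hz3 : z ^ 3 = 1) (hc : Commute z y) :
    z ∈ Subgroup.zpowers y := by
  set K := S.C ⊓ Subgroup.centralizer ({y} : Set G)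
  have hyK : y ∈ K := ⟨hy, Subgroup.mem_centralizer_singleton_iff.2 rfl⟩
  have hzK : z ∈ K := ⟨hz, Subgroup.mem_centralizer_singleton_iff.2 hc.eq⟩
  set Y := Subgroup.zpowers (⟨y, hyK⟩ : ↥K)
  haveI : Y.Normal := ⟨fun a ha g => by
    obtain ⟨j, rfl⟩ := ha
    have : g * (⟨y, hyK⟩ : ↥K) ^ j * g⁻¹ = (⟨y, hyK⟩ : ↥K) ^ j := by
      have h : Commute g (⟨y, hyK⟩ : ↥K) :=
        Subtype.ext (Subgroup.mem_centralizer_singleton_iff.1 g.2.2)
      rw [(h.zpow_right j).eq, mul_inv_cancel_right]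
    exact this ▸ ⟨j, rfl⟩⟩
  have hY : Nat.card Y = 3 := by rw [Nat.card_zpowers, ← Subgroup.orderOf_coe, hy3]
  have h60 : Nat.card K ∣ 60 :=
    (Subgroup.card_dvd_of_le inf_le_left).trans (S.C_dvd_sixty hG)
  rw [← Subgroup.index_mul_card Y, hY] at h60
  have hdvd : Y.index ∣ 20 := Nat.dvd_of_mul_dvd_mul_right (by norm_num : 0 < 3) h60
  have h1 : (⟨z, hzK⟩ : ↥K) ∈ Y := by
    rw [← QuotientGroup.eq_one_iff (N := Y), ← orderOf_eq_one_iff]
    refine Nat.eq_one_of_dvd_coprimes (a := 3) (b := 20) (by norm_num) ?_ ?_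
    · exact (orderOf_map_dvd (QuotientGroup.mk' Y) _).trans
        (orderOf_dvd_iff_pow_eq_one.2 (Subtype.ext (by simpa using hz3)))
    · exact ((orderOf_dvd_natCard _).trans (dvd_of_eq (Subgroup.index_eq_card _).symm)).trans hdvd
  obtain ⟨j, hj⟩ := h1
  exact ⟨j, by simpa using congrArg Subtype.val hj⟩

/-- Any element of order three of `C` is conjugate in `C` to `y` or its inverse. -/
theorem conj_three (hG : ¬ IsMulCommutative G) {y z : G} (hy : y ∈ S.C) (hy3 : orderOf y = 3)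
    (hz : z ∈ S.C) (hz3 : orderOf z = 3) :
    ∃ c ∈ S.C, c * y * c⁻¹ = z ∨ c * y⁻¹ * c⁻¹ = z := by
  haveI : Fact (Nat.Prime 3) := ⟨by norm_num⟩
  set y' : ↥S.C := ⟨y, hy⟩
  set z' : ↥S.C := ⟨z, hz⟩
  have hy' : Nat.card (Subgroup.zpowers y') = 3 := by
    rw [Nat.card_zpowers, ← Subgroup.orderOf_coe, hy3]
  have hz' : Nat.card (Subgroup.zpowers z') = 3 := by
    rw [Nat.card_zpowers, ← Subgroup.orderOf_coe, hz3]
  obtain ⟨m, hm⟩ : 3 ∣ Nat.card S.C := hy' ▸ Subgroup.card_subgroup_dvd_card _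
  have hm3 : ¬ 3 ∣ m := fun h => by
    have h9 : 9 ∣ 60 :=
      (hm ▸ (mul_dvd_mul_left 3 h : 3 * 3 ∣ 3 * m) : 3 * 3 ∣ Nat.card S.C).trans (S.C_dvd_sixty hG)
    norm_num at h9
  obtain ⟨Q₁, hQ₁⟩ := (IsPGroup.of_card (p := 3) (n := 1) hy').exists_le_sylow
  obtain ⟨Q₂, hQ₂⟩ := (IsPGroup.of_card (p := 3) (n := 1) hz').exists_le_sylow
  have hc₁ := card_sylow_eq (k := 1) (m := m) (by rw [hm, pow_one]) hm3 Q₁
  have he : Subgroup.zpowers y' = (Q₁ : Subgroup ↥S.C) :=
    Subgroup.eq_of_le_of_card_ge hQ₁ (by rw [hy', hc₁, pow_one])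
  obtain ⟨c, rfl⟩ := MulAction.exists_smul_eq ↥S.C Q₁ Q₂
  have hzc := hQ₂ (Subgroup.mem_zpowers z')
  rw [Sylow.coe_subgroup_smul, ← he, Subgroup.mem_pointwise_smul_iff_inv_smul_mem, ← map_inv] at hzc
  simp only [MulAut.smul_def, MulAut.conj_apply, inv_inv] at hzc
  have hne : c⁻¹ * z' * c ≠ 1 := fun h => by
    have h' : z' = 1 := by
      calc z' = c * (c⁻¹ * z' * c) * c⁻¹ := by group
        _ = 1 := by rw [h]; group
    have h1 : z = 1 := congrArg Subtype.val h'
    rw [h1, orderOf_one] at hz3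
    omega
  have hmem : (c : G)⁻¹ * z * c ∈ Subgroup.zpowers y := by
    obtain ⟨j, hj⟩ := hzc
    exact ⟨j, by simpa [y', z'] using congrArg Subtype.val hj⟩
  refine ⟨c, c.2, ?_⟩
  rcases eq_or_eq_inv_of_mem_zpowers hy3 hmem (fun h => hne (Subtype.ext (by simpa [z'] using h)))
    with h | h
  · exact Or.inl (by rw [← h]; group)
  · exact Or.inr (by rw [← h]; group)

/-- With a centraliser of order 15 or 30 the index of `C(y)` would be seven. -/
theorem false_of_fifteen_or_thirty (hG : ¬ IsMulCommutative G) {y : G} (hy : y ∈ S.C)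
    (hy3 : orderOf y = 3) (hC : Nat.card S.C = 15 ∨ Nat.card S.C = 30) : False := by
  obtain ⟨n, o, hn5, hn1, ho, hidx, hdvd⟩ := S.centralizer_three hG hy hy3
  set M := Subgroup.centralizer ({y} : Set G)
  have hyM : y ∈ M := Subgroup.mem_centralizer_singleton_iff.2 rfl
  set L := M.subgroupOf S.C
  have hL : Nat.card L = Nat.card ↥(S.C ⊓ M) := by
    rw [← Nat.card_congr (Subgroup.subgroupOfEquivOfLe (inf_le_left : S.C ⊓ M ≤ S.C)).toEquiv]
    refine Nat.card_congr (Equiv.subtypeEquivRight fun x => ?_)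
    simp [L, Subgroup.mem_subgroupOf]
  have h15 : 15 ∣ Nat.card L := by
    rw [hL]
    refine (by norm_num : Nat.Coprime 3 5).mul_dvd_of_dvd_of_dvd ?_ ?_
    · exact hy3 ▸ Subgroup.orderOf_dvd_natCard (S.C ⊓ M) ⟨hy, hyM⟩
    · exact S.card_P ▸ Subgroup.card_dvd_of_le
        (le_inf S.P_le_C (sylow_le_centralizer_singleton S.P hy))
  have hmul := Subgroup.index_mul_card L
  have hsq : ∀ z : ↥S.C, z * z ∈ L := by
    obtain ⟨j, hj⟩ := h15
    have hj0 : j ≠ 0 := fun h => by rw [h, mul_zero] at hj; exact (Nat.card_pos (α := ↥L)).ne' hj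
    have hi : L.index = 1 ∨ L.index = 2 := by
      rw [hj] at hmul
      have : L.index * j ≤ 2 := by
        rcases hC with h | h <;> rw [h] at hmul <;> nlinarith
      have h1 : L.index ≠ 0 := Subgroup.index_ne_zero_of_finite
      have : L.index * 1 ≤ L.index * j := Nat.mul_le_mul_left _ (Nat.one_le_iff_ne_zero.2 hj0)
      omega
    intro z
    rcases hi with h | h
    · rw [Subgroup.index_eq_one.1 h]; trivial
    · exact Subgroup.mul_self_mem_of_index_two h z
  have hconj : ∀ g ∈ S.N, g * y * g⁻¹ = y ∨ g * y * g⁻¹ = y⁻¹ := by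
    intro g hg
    set h := g * y * g⁻¹ with hh
    have hC' : h ∈ S.C := S.conj_mem_C hg hy
    have h3 : h ^ 3 = 1 := by
      rw [hh, conj_pow, orderOf_dvd_iff_pow_eq_one.1 (dvd_of_eq hy3)]; group
    have h4 : h = (h * h) * (h * h) := by
      calc h = h * h ^ 3 := by rw [h3, mul_one]
        _ = (h * h) * (h * h) := by simp only [pow_succ, pow_zero, one_mul, mul_assoc]
    have h2M : h * h ∈ M := Subgroup.mem_subgroupOf.1 (hsq ⟨h, hC'⟩)
    have hM' : h ∈ M := h4 ▸ mul_mem h2M h2M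
    refine eq_or_eq_inv_of_mem_zpowers hy3
      (S.mem_zpowers_of_commute hG hy hy3 hC' h3 (Subgroup.mem_centralizer_singleton_iff.1 hM')) ?_
    intro h1
    have : y = 1 := conj_eq_one_iff.1 h1
    rw [this, orderOf_one] at hy3
    omega
  have ho2 : o ≤ 2 := by
    have hcard := card_conj_mul_card_inf S.N y
    rw [← ho] at hcard
    rw [← Nat.eq_of_mul_eq_mul_right Nat.card_pos hcard]
    calc Nat.card {h : G // ∃ g ∈ S.N, g * y * g⁻¹ = h}
        ≤ Nat.card ({y, y⁻¹} : Set G) :=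
          Nat.card_le_card_of_injective (fun h => ⟨h.1, by
            obtain ⟨g, hg, hgh⟩ := h.2
            rw [← hgh]
            exact hconj g hg⟩) fun a b hab => Subtype.ext (congrArg Subtype.val hab :)
      _ ≤ 2 := by
        rw [Nat.card_coe_set_eq]
        exact (Set.ncard_insert_le _ _).trans (by rw [Set.ncard_singleton])
  have ho0 : o ≠ 0 := fun h => by
    rw [h, zero_mul] at ho; exact (Nat.card_pos (α := ↥S.N)).ne' ho.symm
  have hnle : n ≤ 12 := (Nat.le_of_dvd (by omega) hdvd).trans (by omega)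
  have h7 : M.index = 7 := by
    interval_cases o <;> interval_cases n <;> omega
  obtain ⟨a, haP, ha5, -⟩ := S.exists_gen
  exact index_ne_seven
    (centralizer_singleton_ne_top hG (fun h => by rw [h, orderOf_one] at hy3; omega))
    (sylow_le_centralizer_singleton S.P hy haP) hyM ha5 hy3 (S.commute_P hy haP) h7

/-- With a centraliser of order 60, the elements of `C` normalising `⟨y⟩` have odd order. -/
theorem not_two_dvd_normalizer (hG : ¬ IsMulCommutative G) {y : G} (hy : y ∈ S.C)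
    (hy3 : orderOf y = 3) :
    ¬ 2 ∣ Nat.card ↥(S.C ⊓ Subgroup.normalizer (Subgroup.zpowers y : Set G)) := by
  intro h
  haveI : Fact (Nat.Prime 2) := ⟨by norm_num⟩
  obtain ⟨t₀, ht₀⟩ := exists_prime_orderOf_dvd_card'
    (G := ↥(S.C ⊓ Subgroup.normalizer (Subgroup.zpowers y : Set G))) 2 h
  have ht : orderOf (t₀ : G) = 2 := by rw [Subgroup.orderOf_coe]; exact ht₀
  have h1 := S.fixed_invol hG t₀.2.1 ht
  have h2 := card_fixedBy_modEq_inter_normalizer (q := 2) (k := 1) S.N t₀.2.2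
    (by rw [pow_one]; exact orderOf_dvd_iff_pow_eq_one.1 (dvd_of_eq ht))
  rw [S.fixed_three hy hy3] at h2
  have hle : Nat.card {c : G ⧸ S.N // y • c = c ∧ (t₀ : G) • c = c} ≤ 1 := h1 ▸
    Nat.card_le_card_of_injective (fun c => (⟨c.1, c.2.2⟩ : MulAction.fixedBy (G ⧸ S.N) (t₀ : G)))
      fun a b hab => Subtype.ext (congrArg Subtype.val hab :)
  have hpos : 0 < Nat.card {c : G ⧸ S.N // y • c = c ∧ (t₀ : G) • c = c} :=
    Nat.card_pos_iff.2 ⟨⟨⟨_, S.smul_base (S.C_le_N hy), S.smul_base (S.C_le_N t₀.2.1)⟩⟩,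
      inferInstance⟩
  omega

/-- With a centraliser of order 60, `C ∩ C(y)` has order 15 and no element of `C` inverts `y`. -/
theorem sixty_local (hG : ¬ IsMulCommutative G) {y : G} (hy : y ∈ S.C) (hy3 : orderOf y = 3) :
    Nat.card ↥(S.C ⊓ Subgroup.centralizer ({y} : Set G)) = 15 ∧
      ∀ c ∈ S.C, c * y * c⁻¹ ≠ y⁻¹ := by
  set M := Subgroup.centralizer ({y} : Set G)
  set D := S.C ⊓ Subgroup.normalizer (Subgroup.zpowers y : Set G)
  have hodd := S.not_two_dvd_normalizer hG hy hy3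
  have hnorm : ∀ c : G, c * y * c⁻¹ = y ∨ c * y * c⁻¹ = y⁻¹ →
      c ∈ Subgroup.normalizer (Subgroup.zpowers y : Set G) := by
    intro c hc
    have hz : Subgroup.zpowers (c * y * c⁻¹) = Subgroup.zpowers y := by
      rcases hc with h | h <;> rw [h]
      exact Subgroup.zpowers_inv
    rw [Subgroup.mem_normalizer_iff]
    intro w
    conv_rhs => rw [← hz]
    constructor
    · rintro ⟨j, rfl⟩
      exact ⟨j, conj_zpow⟩
    · rintro ⟨j, hj⟩
      refine ⟨j, ?_⟩
      simpa [conj_zpow] using hj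
  have hMD : S.C ⊓ M ≤ D := le_inf inf_le_left fun c hc =>
    hnorm c (Or.inl (by rw [Subgroup.mem_centralizer_singleton_iff.1 hc.2, mul_inv_cancel_right]))
  refine ⟨?_, fun c hc hinv => ?_⟩
  · have h15 : 15 ∣ Nat.card ↥(S.C ⊓ M) :=
      (by norm_num : Nat.Coprime 3 5).mul_dvd_of_dvd_of_dvd
        (hy3 ▸ Subgroup.orderOf_dvd_natCard (S.C ⊓ M)
          ⟨hy, Subgroup.mem_centralizer_singleton_iff.2 rfl⟩)
        (S.card_P ▸ Subgroup.card_dvd_of_le
          (le_inf S.P_le_C (sylow_le_centralizer_singleton S.P hy)))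
    obtain ⟨j, hj⟩ := h15
    have hj4 : j ∣ 4 := by
      refine Nat.dvd_of_mul_dvd_mul_left (by norm_num : 0 < 15) ?_
      exact hj ▸ (Subgroup.card_dvd_of_le inf_le_left).trans (S.C_dvd_sixty hG)
    have hj2 : ¬ 2 ∣ j := fun h => hodd
      ((h.trans (Dvd.intro_left _ hj.symm)).trans (Subgroup.card_dvd_of_le hMD))
    have := Nat.le_of_dvd (by norm_num) hj4
    interval_cases j <;> omega
  · have hcD : c ∈ D := ⟨hc, hnorm c (Or.inr hinv)⟩
    obtain ⟨j, hj⟩ : Odd (orderOf c) := Nat.odd_iff.2 (Nat.two_dvd_ne_zero.1 fun h =>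
      hodd (h.trans (Subgroup.orderOf_dvd_natCard D hcD)))
    have h2 : Commute (c * c) y := by
      refine mul_inv_eq_iff_eq_mul.1 ?_
      calc c * c * y * (c * c)⁻¹ = c * (c * y * c⁻¹) * c⁻¹ := by group
        _ = c * y⁻¹ * c⁻¹ := by rw [hinv]
        _ = (c * y * c⁻¹)⁻¹ := by group
        _ = y := by rw [hinv, inv_inv]
    have hcy : Commute c y := by
      have h := h2.pow_left (j + 1)
      rwa [← pow_two, ← pow_mul, show 2 * (j + 1) = orderOf c + 1 by omega, pow_succ,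
        pow_orderOf_eq_one, one_mul] at h
    rw [hcy.eq, mul_inv_cancel_right] at hinv
    have h : orderOf y ∣ 2 := orderOf_dvd_iff_pow_eq_one.2 (by rw [pow_two, ← inv_eq_iff_mul_eq_one]; exact hinv.symm)
    rw [hy3] at h
    norm_num at h

/-- The `C`-class of `y` has four elements. -/
theorem class_four (hG : ¬ IsMulCommutative G) (hC : Nat.card S.C = 60) {y : G} (hy : y ∈ S.C)
    (hy3 : orderOf y = 3) : {h : G | ∃ c ∈ S.C, c * y * c⁻¹ = h}.ncard = 4 := by
  have h := card_conj_mul_card_inf S.C y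
  rw [(S.sixty_local hG hy hy3).1, hC] at h
  rw [← Nat.card_coe_set_eq]
  exact Nat.eq_of_mul_eq_mul_right (by norm_num : 0 < 15) h

/-- Fourth powers of elements of `N` centralise `P`. -/
theorem pow_four_mem (hG : ¬ IsMulCommutative G) {x : G} (hx : x ∈ S.N) : x ^ 4 ∈ S.C := by
  haveI : (S.C.subgroupOf S.N).Normal := ⟨fun z hz g => Subgroup.mem_subgroupOf.2 (by
    simpa using S.conj_mem_C g.2 (Subgroup.mem_subgroupOf.1 hz))⟩
  have h := Subgroup.pow_index_mem (S.C.subgroupOf S.N) (⟨x, hx⟩ : ↥S.N)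
  rw [Subgroup.mem_subgroupOf, SubgroupClass.coe_pow] at h
  change x ^ (S.C.relIndex S.N) ∈ S.C at h
  rcases S.relIndex_mem hG with e | e <;> rw [e] at h
  · simpa [← pow_mul] using pow_mem h 2
  · exact h

/-- A centraliser of order 60 with an element of `N` inverting `y`. -/
theorem false_of_inverted (hG : ¬ IsMulCommutative G) {y : G} (hy : y ∈ S.C)
    (hy3 : orderOf y = 3) (hx : ∃ x ∈ S.N, x * y * x⁻¹ = y⁻¹) : False := by
  classical
  haveI : Fact (Nat.Prime 2) := ⟨by norm_num⟩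
  obtain ⟨h15, hnoinv⟩ := S.sixty_local hG hy hy3
  obtain ⟨x₀, hx₀N, hx₀⟩ := hx
  -- pass to a 2-element
  obtain ⟨i, m, hm, hord⟩ := Nat.exists_eq_two_pow_mul_odd (orderOf_pos x₀).ne'
  obtain ⟨j, rfl⟩ := hm
  have hsq : ∀ g : G, g * y * g⁻¹ = y⁻¹ → Commute (g * g) y := fun g hg => by
    refine mul_inv_eq_iff_eq_mul.1 ?_
    calc g * g * y * (g * g)⁻¹ = g * (g * y * g⁻¹) * g⁻¹ := by group
      _ = g * y⁻¹ * g⁻¹ := by rw [hg]
      _ = (g * y * g⁻¹)⁻¹ := by group
      _ = y := by rw [hg, inv_inv]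
  set x := x₀ ^ (2 * j + 1)
  have hxN : x ∈ S.N := pow_mem hx₀N _
  have hx : x * y * x⁻¹ = y⁻¹ := by
    have hc := ((hsq x₀ hx₀).pow_left j).eq
    rw [← pow_two, ← pow_mul] at hc
    calc x * y * x⁻¹ = x₀ * (x₀ ^ (2 * j) * y) * (x₀ ^ (2 * j + 1))⁻¹ := by
          simp only [x, pow_succ']; group
      _ = x₀ * (y * x₀ ^ (2 * j)) * (x₀ ^ (2 * j + 1))⁻¹ := by rw [hc]
      _ = x₀ * y * x₀⁻¹ := by rw [pow_succ']; group
      _ = y⁻¹ := hx₀
  have hx2 : x ^ 2 ^ i = 1 := by
    rw [← pow_mul, mul_comm, ← hord, pow_orderOf_eq_one]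
  have hxC : x ∉ S.C := fun h => hnoinv x h hx
  have hone : ∀ w ∈ S.C ⊓ Subgroup.centralizer ({y} : Set G), w ^ 2 ^ i = 1 → w = 1 := by
    intro w hw hw2
    refine orderOf_eq_one_iff.1 (Nat.eq_one_of_dvd_coprimes (a := 2 ^ i) (b := 15)
      ((by norm_num : Nat.Coprime 2 15).pow_left i) (orderOf_dvd_iff_pow_eq_one.2 hw2) ?_)
    exact h15 ▸ Subgroup.orderOf_dvd_natCard _ hw
  have hxxM : x * x ∈ Subgroup.centralizer ({y} : Set G) :=
    Subgroup.mem_centralizer_singleton_iff.2 (hsq x hx).eq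
  have hynorm : x ∈ Subgroup.normalizer (Subgroup.zpowers y : Set G) := by
    rw [Subgroup.mem_normalizer_iff]
    intro w
    constructor
    · rintro ⟨k, rfl⟩
      exact ⟨-k, by simp only [← conj_zpow, hx, inv_zpow, zpow_neg]⟩
    · rintro ⟨k, hk⟩
      refine ⟨-k, ?_⟩
      have hx' : x⁻¹ * y * x = y⁻¹ := by
        calc x⁻¹ * y * x = (x⁻¹ * y⁻¹ * x)⁻¹ := by group
          _ = (x⁻¹ * (x * y * x⁻¹) * x)⁻¹ := by rw [hx]
          _ = y⁻¹ := by group
      calc y ^ (-k) = (x⁻¹ * y * x) ^ k := by rw [hx', inv_zpow, zpow_neg]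
        _ = x⁻¹ * y ^ k * x := by
          have := conj_zpow (i := k) (a := x⁻¹) (b := y); simpa using this
        _ = x⁻¹ * (x * w * x⁻¹) * x := by rw [show y ^ k = x * w * x⁻¹ from hk]
        _ = w := by group
  have h6 := S.fixed_three hy hy3
  -- a 2-element normalising `⟨y⟩` fixes at least two cosets
  have htwo : ∀ g, g ∈ S.N → g ^ 2 ^ i = 1 →
      g ∈ Subgroup.normalizer (Subgroup.zpowers y : Set G) →
      2 ≤ Nat.card (MulAction.fixedBy (G ⧸ S.N) g) := by
    intro g hgN hg hgn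
    have h := card_fixedBy_modEq_inter_normalizer (q := 2) (k := i) S.N hgn hg
    rw [h6] at h
    have hle : Nat.card {c : G ⧸ S.N // y • c = c ∧ g • c = c}
        ≤ Nat.card (MulAction.fixedBy (G ⧸ S.N) g) :=
      Nat.card_le_card_of_injective (fun c => (⟨c.1, c.2.2⟩ : MulAction.fixedBy (G ⧸ S.N) g))
        fun a b hab => Subtype.ext (congrArg Subtype.val hab :)
    have hpos : 0 < Nat.card {c : G ⧸ S.N // y • c = c ∧ g • c = c} :=
      Nat.card_pos_iff.2 ⟨⟨⟨_, S.smul_base (S.C_le_N hy), S.smul_base hgN⟩⟩, inferInstance⟩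
    omega
  have hfive : ∀ g, g ∈ S.N → g ∉ S.C → orderOf g = 2 →
      2 ≤ Nat.card (MulAction.fixedBy (G ⧸ S.N) g) →
      Nat.card (MulAction.fixedBy (G ⧸ S.N) g) = 5 := by
    intro g hgN hgC hg2 hge
    have h := (S.fixed_off hgN hgC).1
    have h4 := four_dvd_index_sub_fixedBy hG S.N_ne_top hg2
    rw [S.index_N] at h4
    omega
  have hxbound := htwo x hxN hx2 hynorm
  by_cases hxx : x * x ∈ S.C
  · have h1 : x * x = 1 := hone _ ⟨hxx, hxxM⟩
      (by rw [← pow_two, ← pow_mul, mul_comm, pow_mul, hx2, one_pow])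
    have hx1 : x ≠ 1 := fun h => hxC (h ▸ one_mem _)
    have ho := orderOf_eq_prime (p := 2) (by rw [pow_two, h1]) hx1
    exact S.false_of_five_fixed hy hy3 hxN hxC hx (hfive x hxN hxC ho hxbound)
  · have h4 : x ^ 4 = 1 := hone _ ⟨S.pow_four_mem hG hxN, by
      rw [show x ^ 4 = (x * x) * (x * x) by simp only [pow_succ, pow_zero, one_mul, mul_assoc]]; exact mul_mem hxxM hxxM⟩
      (by rw [← pow_mul, mul_comm, pow_mul, hx2, one_pow])
    set u := x * x
    have hu1 : u ≠ 1 := fun h => hxx (h ▸ one_mem _)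
    have hu2 : orderOf u = 2 := orderOf_eq_prime (p := 2)
      (by rw [← h4]; simp only [u, pow_succ, pow_zero, one_mul, mul_assoc]) hu1
    have hu5 := hfive u (mul_mem hxN hxN) hxx hu2 (htwo u (mul_mem hxN hxN)
      (by simp only [u]; rw [← pow_two, ← pow_mul, mul_comm, pow_mul, hx2, one_pow])
      (mul_mem hynorm hynorm))
    have hsub : Nat.card (MulAction.fixedBy (G ⧸ S.N) x)
        ≤ Nat.card (MulAction.fixedBy (G ⧸ S.N) u) :=
      Nat.card_le_card_of_injective (fun c => (⟨c.1, by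
        show (x * x) • c.1 = c.1
        rw [mul_smul, c.2, c.2]⟩ : MulAction.fixedBy (G ⧸ S.N) u))
        fun a b hab => Subtype.ext (congrArg Subtype.val hab :)
    have hodd := card_fixedBy_modEq_index (q := 2) (k := i) S.N hx2
    rw [S.index_N] at hodd
    rcases (show Nat.card (MulAction.fixedBy (G ⧸ S.N) x) = 3 ∨
        Nat.card (MulAction.fixedBy (G ⧸ S.N) x) = 5 by omega) with hf | hf
    · haveI := Fintype.ofFinite (G ⧸ S.N)
      set f := MulAction.toPermHom G (G ⧸ S.N)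
      have hsupp : ∀ g : G, (f g).support.card
          + Nat.card (MulAction.fixedBy (G ⧸ S.N) g) = 21 := by
        intro g
        rw [← S.index_N, Subgroup.index_eq_card, Nat.card_eq_fintype_card,
          Nat.card_eq_fintype_card, ← Finset.card_add_card_compl (f g).support]
        congr 1
        refine Fintype.card_of_subtype _ fun c => ?_
        rw [Finset.mem_compl, Equiv.Perm.mem_support, not_not]
        rfl
      have hs1 := hsupp x
      have hs2 := hsupp u
      rw [show u = x ^ 2 from (pow_two x).symm, map_pow] at hs2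
      rw [show x ^ 2 = u from pow_two x, hu5] at hs2
      have h := sign_eq_neg_one (σ := f x) (by rw [← map_pow, h4, map_one])
        (by omega) (by omega)
      rw [sign_toPerm_eq_one hG f x] at h
      exact absurd h (by decide)
    · exact S.false_of_five_fixed hy hy3 hxN hxC hx hf

/-- A centraliser of order 60. -/
theorem false_of_sixty (hG : ¬ IsMulCommutative G) (hC : Nat.card S.C = 60) {y : G} (hy : y ∈ S.C)
    (hy3 : orderOf y = 3) : False := by
  by_cases hx : ∃ x ∈ S.N, x * y * x⁻¹ = y⁻¹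
  · exact S.false_of_inverted hG hy hy3 hx
  haveI : Fact (Nat.Prime 3) := ⟨by norm_num⟩
  obtain ⟨n, o, hn5, hn1, ho, hidx, hdvd⟩ := S.centralizer_three hG hy hy3
  set M := Subgroup.centralizer ({y} : Set G)
  have hy3' : y ^ 3 = 1 := orderOf_dvd_iff_pow_eq_one.1 (dvd_of_eq hy3)
  have hy1 : y ≠ 1 := fun h => by rw [h, orderOf_one] at hy3; omega
  set A := {h : G | ∃ c ∈ S.C, c * y * c⁻¹ = h} with hA
  have hA4 : A.ncard = 4 := S.class_four hG hC hy hy3
  have hNA : {h : G | ∃ g ∈ S.N, g * y * g⁻¹ = h} = A := by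
    ext h
    constructor
    · rintro ⟨g, hg, rfl⟩
      obtain ⟨c, hc, h | h⟩ := S.conj_three hG hy hy3 (S.conj_mem_C hg hy)
        (by rw [orderOf_conj_eq, hy3])
      · exact ⟨c, hc, h⟩
      · refine absurd ⟨c⁻¹ * g, mul_mem (inv_mem (S.C_le_N hc)) hg, ?_⟩ hx
        calc c⁻¹ * g * y * (c⁻¹ * g)⁻¹ = c⁻¹ * (g * y * g⁻¹) * c := by group
          _ = c⁻¹ * (c * y⁻¹ * c⁻¹) * c := by rw [h]
          _ = y⁻¹ := by group
    · rintro ⟨c, hc, rfl⟩
      exact ⟨c, S.C_le_N hc, rfl⟩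
  have ho4 : o = 4 := by
    have hcard := card_conj_mul_card_inf S.N y
    rw [← ho] at hcard
    rw [← Nat.eq_of_mul_eq_mul_right Nat.card_pos hcard, ← hA4, ← hNA, ← Nat.card_coe_set_eq]
    rfl
  subst ho4
  have hn6 : n = 6 := by
    have := Nat.le_of_dvd (by norm_num) hdvd
    interval_cases n <;> omega
  subst hn6
  have h14 : M.index = 14 := by omega
  obtain ⟨a, haP, ha5, haC⟩ := S.exists_gen
  have haM : a ∈ M := sylow_le_centralizer_singleton S.P hy haP
  have hMtop : M ≠ ⊤ := centralizer_singleton_ne_top hG hy1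
  have hinA : ∀ h, h ∈ A → h ∈ S.C ∧ IsConj y h := by
    rintro _ ⟨c, hc, rfl⟩
    exact ⟨mul_mem (mul_mem hc hy) (inv_mem hc), isConj_iff.2 ⟨c, rfl⟩⟩
  have hcomm : ∀ h, h ∈ S.C ↔ Commute a h := fun h => by
    rw [← haC, Subgroup.mem_centralizer_singleton_iff]
    exact ⟨fun h' => h'.symm, fun h' => h'.symm⟩
  set T := {h : G | IsConj y h ∧ Commute a h}
  have hAT : A ⊆ T := fun h hh => ⟨(hinA h hh).2, (hcomm h).1 (hinA h hh).1⟩
  have hTA : T ⊆ A ∪ (fun h => h⁻¹) '' A := by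
    rintro h ⟨hconj, hh⟩
    obtain ⟨g, rfl⟩ := isConj_iff.1 hconj
    obtain ⟨c, hc, e | e⟩ := S.conj_three hG hy hy3 ((hcomm _).2 hh)
      (by rw [orderOf_conj_eq, hy3])
    · exact Or.inl ⟨c, hc, e⟩
    · exact Or.inr ⟨c * y * c⁻¹, ⟨c, hc, rfl⟩, by rw [← e]; group⟩
  have hfa := card_fixedBy_centralizer y a
  have hT : T.ncard = Nat.card (MulAction.fixedBy (G ⧸ M) a) := by
    rw [hfa, ← Nat.card_coe_set_eq]; rfl
  have hmod := card_fixedBy_modEq_index (q := 5) (k := 1) M (x := a)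
    (by rw [pow_one]; exact orderOf_dvd_iff_pow_eq_one.1 (dvd_of_eq ha5))
  rw [h14, ← hT] at hmod
  have hup : T.ncard ≤ 8 := (Set.ncard_le_ncard hTA).trans ((Set.ncard_union_le _ _).trans
    (by rw [Set.ncard_image_of_injective _ inv_injective, hA4]))
  have hlow : 4 ≤ T.ncard := hA4 ▸ Set.ncard_le_ncard hAT
  have hTeq : A = T := Set.eq_of_subset_of_ncard_le hAT (by omega)
  have hinter : Nat.card {c : G ⧸ M // y • c = c ∧ a • c = c} = 1 := by
    rw [card_inter_fixedBy_centralizer, Nat.card_eq_one_iff_unique]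
    refine ⟨⟨fun u v => Subtype.ext ?_⟩,
      ⟨⟨y, IsConj.refl y, Commute.refl y, (hcomm y).1 hy⟩⟩⟩
    suffices hu : ∀ h, IsConj y h → Commute y h → Commute a h → h = y by
      rw [hu _ u.2.1 u.2.2.1 u.2.2.2, hu _ v.2.1 v.2.2.1 v.2.2.2]
    intro h hconj hyh hah
    obtain ⟨c, hc, hch⟩ : h ∈ A := hTeq ▸ (⟨hconj, hah⟩ : h ∈ T)
    have h3 : h ^ 3 = 1 := by rw [← hch, conj_pow, hy3']; group
    have hh1 : h ≠ 1 := fun h1 => hy1 (conj_eq_one_iff.1 (hch.trans h1))
    rcases eq_or_eq_inv_of_mem_zpowers hy3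
      (S.mem_zpowers_of_commute hG hy hy3 ((hcomm h).2 hah) h3 hyh.symm) hh1 with e | e
    · exact e
    · exact absurd (hch.trans e) ((S.sixty_local hG hy hy3).2 c hc)
  have hf5 := card_fixedBy_modEq_inter (q := 5) (k := 1) M (t := y) (S.commute_P hy haP)
    (by rw [pow_one]; exact orderOf_dvd_iff_pow_eq_one.1 (dvd_of_eq ha5))
  rw [hinter] at hf5
  have hf3 := card_fixedBy_modEq_index (q := 3) (k := 1) M (x := y) (by rw [pow_one]; exact hy3')
  rw [h14] at hf3
  have hlt := card_fixedBy_lt_index hMtop hy1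
  rw [h14] at hlt
  have hfy : Nat.card (MulAction.fixedBy (G ⧸ M) y) = 11 := by omega
  refine false_of_fourteen hG hy3 h14 hfy ha5 haM ?_
  rw [S.card_G, ← S.card_N, hC]
  rcases S.relIndex_mem hG with e | e <;> rw [e]
  norm_num

include S in
/-- A simple group cannot have 21 Sylow 5-subgroups of order five. -/
theorem false_of_small (hG : ¬ IsMulCommutative G) : False := by
  haveI : Fact (Nat.Prime 3) := ⟨by norm_num⟩
  obtain ⟨j, hj⟩ := S.five_dvd_C
  have hj12 : j ∣ 12 :=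
    Nat.dvd_of_mul_dvd_mul_left (by norm_num : 0 < 5) (hj ▸ S.C_dvd_sixty hG)
  have hjle := Nat.le_of_dvd (by norm_num) hj12
  by_cases h3 : 3 ∣ j
  · obtain ⟨y₀, hy₀⟩ := exists_prime_orderOf_dvd_card' (G := ↥S.C) 3
      (hj ▸ dvd_mul_of_dvd_right h3 5)
    have hy3 : orderOf (y₀ : G) = 3 := by rw [Subgroup.orderOf_coe]; exact hy₀
    by_cases h12 : j = 12
    · exact S.false_of_sixty hG (by omega) y₀.2 hy3
    · refine S.false_of_fifteen_or_thirty hG y₀.2 hy3 ?_
      interval_cases j <;> omega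
  · by_cases h1 : j = 1
    · have hG' := S.card_G
      rw [← S.card_N, hj, h1] at hG'
      rcases S.relIndex_mem hG with e | e <;> rw [e] at hG' <;> norm_num at hG'
      · have h4 := four_dvd_card_of_simple hG (by omega)
        omega
      · exact false_of_four_twenty hG hG'
    · refine S.false_of_ten_or_twenty hG ?_
      interval_cases j <;> omega

end Setting

end CfsgLib.Small.TwentyOne
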