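import Mathlib.GroupTheory.GroupAction.Jordan
import Mathlib.GroupTheory.Perm.Cycle.Type
import Mathlib.Tactic
import Cfsg.Agent.ZStar.Theorem
import Cfsg.Agent.Small.ThompsonOrder
import Cfsg.Agent.Small.OrderTools
import Cfsg.Agent.Small.ConjAction

/-!
# Twenty-one Sylow 5-subgroups of order five
-/

open scoped Pointwise

namespace CfsgLib.Small.TwentyOne

variable {G : Type*} [Group G] [Finite G] [Fact (Nat.Prime 5)]

/-- The data: `P` has order five and its normaliser has index 21. -/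
structure Setting (G : Type*) [Group G] [Finite G] [Fact (Nat.Prime 5)] where
  P : Sylow 5 G
  card_P : Nat.card (P : Subgroup G) = 5
  card_sylow : Nat.card (Sylow 5 G) = 21

namespace Setting

variable (S : Setting G)

/-- `N(P)`. -/
def N : Subgroup G := Subgroup.normalizer ((S.P : Subgroup G) : Set G)

/-- `C(P)`. -/
def C : Subgroup G := Subgroup.centralizer ((S.P : Subgroup G) : Set G)

theorem C_le_N : S.C ≤ S.N := Subgroup.centralizer_le_normalizer _

theorem index_N : S.N.index = 21 :=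
  (S.P.card_eq_index_normalizer).symm.trans S.card_sylow

theorem N_ne_top : S.N ≠ ⊤ := fun h => by
  have := S.index_N
  rw [h, Subgroup.index_top] at this
  norm_num at this

theorem card_G : Nat.card G = 21 * Nat.card S.N := by
  rw [← S.index_N]; exact (Subgroup.index_mul_card _).symm

theorem card_N : Nat.card S.C * S.C.relIndex S.N = Nat.card S.N :=
  card_centralizer_mul_relIndex (S.P : Subgroup G)

theorem P_le_C : (S.P : Subgroup G) ≤ S.C := by
  haveI : IsCyclic ↥(S.P : Subgroup G) := isCyclic_of_prime_card S.card_P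
  exact Subgroup.le_centralizer _

theorem five_dvd_C : 5 ∣ Nat.card S.C := S.card_P ▸ Subgroup.card_dvd_of_le S.P_le_C

theorem fixed_mod {x : G} (hx : x ∈ S.C) :
    Nat.card (MulAction.fixedBy (G ⧸ S.N) x) % 5 = 1 :=
  card_fixedBy_modEq_one S.P S.card_P hx

variable [IsSimpleGroup G]

theorem fixed_lt {x : G} (hx : x ≠ 1) :
    Nat.card (MulAction.fixedBy (G ⧸ S.N) x) < 21 :=
  lt_of_lt_of_eq (card_fixedBy_lt_index S.N_ne_top hx) S.index_N

theorem fixed_invol (hG : ¬ IsMulCommutative G) {t : G} (ht : t ∈ S.C) (h2 : orderOf t = 2) :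
    Nat.card (MulAction.fixedBy (G ⧸ S.N) t) = 1 := by
  have h := S.fixed_mod ht
  have h' := S.fixed_lt (ne_one_of_orderOf_two h2)
  have h4 := four_dvd_index_sub_fixedBy hG S.N_ne_top h2
  rw [S.index_N] at h4
  omega

theorem relIndex_mem (hG : ¬ IsMulCommutative G) : S.C.relIndex S.N = 2 ∨ S.C.relIndex S.N = 4 := by
  have h := relIndex_centralizer_mem hG S.P S.card_P (n := Nat.card S.N) rfl
  obtain ⟨h1, -, h3⟩ := Finset.mem_filter.1 h
  change S.C.relIndex S.N ∈ Nat.divisors (5 - 1) at h1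
  change S.C.relIndex S.N ≠ 1 at h3
  have hall : ∀ e ∈ Nat.divisors (5 - 1), e ≠ 1 → e = 2 ∨ e = 4 := by decide
  exact hall _ h1 h3

omit [IsSimpleGroup G] in
include S in
theorem not_sq_dvd : ¬ 5 ^ 2 ∣ Nat.card G := by
  intro h
  obtain ⟨Q, hQ⟩ := Sylow.exists_subgroup_card_pow_prime (G := G) 5 h
  obtain ⟨R, hR⟩ := (IsPGroup.of_card (p := 5) (n := 2) hQ).exists_le_sylow
  have h1 := Subgroup.card_dvd_of_le hR
  rw [hQ, show Nat.card ↥(R : Subgroup G) = 5 from
    (Nat.card_congr (R.equiv S.P).toEquiv).trans S.card_P] at h1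
  norm_num at h1

theorem C_dvd_sixty (hG : ¬ IsMulCommutative G) : Nat.card S.C ∣ 60 := by
  rw [Nat.dvd_iff_prime_pow_dvd_dvd]
  intro q k hq hk
  haveI := Fact.mk hq
  rcases Nat.eq_zero_or_pos k with rfl | hk0
  · simp
  obtain ⟨x₀, hx₀⟩ := exists_prime_orderOf_dvd_card' (G := S.C) q
    ((dvd_pow_self q hk0.ne').trans hk)
  have hx : orderOf (x₀ : G) = q := by rw [Subgroup.orderOf_coe]; exact hx₀
  have hx1 : (x₀ : G) ≠ 1 := fun h => hq.ne_one (by rw [← hx, h, orderOf_one])
  have h5 := S.fixed_mod x₀.2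
  have hlt := S.fixed_lt hx1
  have hq' := card_fixedBy_modEq_index (q := q) (k := 1) S.N (x := (x₀ : G))
    (by rw [pow_one]; exact orderOf_dvd_iff_pow_eq_one.1 (dvd_of_eq hx))
  rw [S.index_N] at hq'
  set f := Nat.card (MulAction.fixedBy (G ⧸ S.N) (x₀ : G))
  have hq235 : q = 2 ∨ q = 3 ∨ q = 5 := by
    have hdvd : q ∣ 21 - f := (Nat.modEq_iff_dvd' hlt.le).1 hq'.symm
    have hall : ∀ g < (21 : ℕ), g % 5 = 1 → ∀ r < (21 : ℕ), r ∣ 21 - g →
        r ≤ 5 ∨ r % 5 = 0 := by decide
    rcases hall f hlt h5 q (Nat.lt_succ_of_le ((Nat.le_of_dvd (by omega) hdvd).trans (by omega)))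
      hdvd with h | h
    · have := hq.two_le
      have h4 : q ≠ 4 := fun h => by rw [h] at hq; norm_num at hq
      omega
    · exact Or.inr (Or.inr ((Nat.prime_dvd_prime_iff_eq (by norm_num) hq).1
        (Nat.dvd_of_mod_eq_zero h)).symm)
  rcases hq235 with rfl | rfl | rfl
  · refine (pow_dvd_pow 2 (?_ : k ≤ 2)).trans (by norm_num)
    by_contra h3
    obtain ⟨A, hAC, hA⟩ := exists_two_subgroup_le (H := S.C) (k := 3)
      ((pow_dvd_pow 2 (by omega : 3 ≤ k)).trans hk)
    have hA1 : ∀ a ∈ A, a ≠ 1 → Nat.card (MulAction.fixedBy (G ⧸ S.N) a) = 1 := by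
      intro a ha ha1
      -- a power of `a` is an involution
      obtain ⟨j, hj3, hj⟩ := (Nat.dvd_prime_pow Nat.prime_two).1 (hA ▸ Subgroup.orderOf_dvd_natCard A ha)
      have hj0 : j ≠ 0 := fun h => ha1 (orderOf_eq_one_iff.1 (by rw [hj, h, pow_zero]))
      have hinv : orderOf (a ^ 2 ^ (j - 1)) = 2 := by
        rw [orderOf_pow_of_dvd (by positivity) (hj ▸ pow_dvd_pow 2 (Nat.sub_le j 1)), hj,
          Nat.pow_div (Nat.sub_le j 1) two_pos, show j - (j - 1) = 1 by omega, pow_one]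
      have h1 := S.fixed_invol hG (pow_mem (hAC ha) _) hinv
      have hle : Nat.card (MulAction.fixedBy (G ⧸ S.N) a) ≤ 1 := by
        rw [← h1]
        refine Nat.card_le_card_of_injective (fun c => ⟨c.1, ?_⟩) ?_
        · exact MulAction.mem_fixedBy.2 (Subgroup.pow_mem (MulAction.stabilizer G c.1) c.2 _)
        · exact fun c d h => Subtype.ext (congrArg Subtype.val h :)
      have hpos := S.fixed_mod (hAC ha)
      omega
    have h := card_dvd_sum_fixedBy A S.N 1 hA1
    rw [hA, S.index_N] at h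
    norm_num at h
  · refine (pow_dvd_pow 3 (?_ : k ≤ 1)).trans (by norm_num)
    by_contra h2
    obtain ⟨A, hA⟩ := Sylow.exists_subgroup_card_pow_prime (G := ↥S.C) 3 (n := 2)
      ((pow_dvd_pow 3 (by omega : 2 ≤ k)).trans hk)
    have hA' : Nat.card (A.map S.C.subtype) = 9 := by
      rw [← Nat.card_congr (A.equivMapOfInjective _ S.C.subtype_injective).toEquiv, hA]; norm_num
    have hA1 : ∀ a ∈ A.map S.C.subtype, a ≠ 1 → Nat.card (MulAction.fixedBy (G ⧸ S.N) a) = 6 := by
      rintro _ ⟨a, ha, rfl⟩ ha1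
      have h1 := S.fixed_mod a.2
      have h2 := S.fixed_lt ha1
      have h3 := card_fixedBy_modEq_index (q := 3) (k := 2) S.N (x := (a : G)) (by
        have h : (a : G) ^ Nat.card A = 1 :=
          orderOf_dvd_iff_pow_eq_one.1 ((Subgroup.orderOf_coe a).symm ▸ Subgroup.orderOf_dvd_natCard A ha)
        rw [hA] at h; exact h)
      rw [S.index_N] at h3
      simp only [Subgroup.coe_subtype] at *
      omega
    have h := card_dvd_sum_fixedBy _ S.N 6 hA1
    rw [hA', S.index_N] at h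
    norm_num at h
  · refine (pow_dvd_pow 5 (?_ : k ≤ 1)).trans (by norm_num)
    by_contra h2
    exact S.not_sq_dvd (((pow_dvd_pow 5 (by omega : 2 ≤ k)).trans hk).trans
      (Subgroup.card_subgroup_dvd_card S.C))

omit [Fact (Nat.Prime 5)] in
/-- No simple group has order 420. -/
theorem false_of_four_twenty (hG : ¬ IsMulCommutative G) (hN : Nat.card G = 420) : False := by
  haveI : Fact (Nat.Prime 7) := ⟨by norm_num⟩
  haveI : Fact (Nat.Prime 2) := ⟨by norm_num⟩
  obtain ⟨Q⟩ : Nonempty (Sylow 7 G) := inferInstance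
  have hQ : Nat.card (Q : Subgroup G) = 7 := by
    simpa using card_sylow_eq (k := 1) (m := 60) (by rw [hN]; norm_num) (by norm_num) Q
  have hn := card_sylow_mem hG (p := 7) (k := 1) (m := 60) (by rw [hN]; norm_num) one_ne_zero
    (by norm_num)
  rw [show (Nat.divisors 60).filter (fun d => d % 7 = 1 ∧ d ≠ 1) = {15} by decide,
    Finset.mem_singleton] at hn
  have hcardN := card_sylow_mul_card_normalizer Q
  rw [hn, hN] at hcardN
  set N := Subgroup.normalizer ((Q : Subgroup G) : Set G)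
  have hN28 : Nat.card N = 28 := by omega
  have hrel := relIndex_centralizer_mem hG Q hQ hN28
  rw [show (Nat.divisors (7 - 1)).filter (fun e => e ∣ 28 ∧ e ≠ 1) = {2} by decide,
    Finset.mem_singleton] at hrel
  have hmul := card_centralizer_mul_relIndex (Q : Subgroup G)
  rw [hrel, hN28] at hmul
  obtain ⟨t₀, ht₀⟩ := exists_prime_orderOf_dvd_card'
    (G := Subgroup.centralizer ((Q : Subgroup G) : Set G)) 2 ⟨7, by omega⟩
  have ht : orderOf (t₀ : G) = 2 := by rw [Subgroup.orderOf_coe]; exact ht₀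
  have hidx : N.index = 15 := Q.card_eq_index_normalizer.symm.trans hn
  have hNtop : N ≠ ⊤ := fun h => by rw [h, Subgroup.index_top] at hidx; norm_num at hidx
  have h1 := card_fixedBy_modEq_one Q hQ t₀.2
  have h2 := four_dvd_index_sub_fixedBy hG hNtop ht
  have h3 := card_fixedBy_lt_index hNtop (ne_one_of_orderOf_two ht)
  rw [hidx] at h2 h3
  change Nat.card (MulAction.fixedBy (G ⧸ N) (t₀ : G)) % 7 = 1 at h1
  omega

/-- An involution of `C(P)` central in `N(P)` is isolated, against the Z*-theorem. -/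
theorem false_of_central_invol (hG : ¬ IsMulCommutative G) {t : G} (htC : t ∈ S.C)
    (ht : orderOf t = 2) (hle : S.N ≤ Subgroup.centralizer ({t} : Set G)) : False := by
  have ht1 := ne_one_of_orderOf_two ht
  have hM := centralizer_singleton_ne_top hG ht1
  have hPN : (S.P : Subgroup G) ≤ S.N := Subgroup.le_normalizer
  obtain ⟨n, hn5, hc, -⟩ := exists_card_eq_mul_normalizer S.P (hPN.trans hle)
  rw [show Subgroup.normalizer ((S.P : Subgroup G) : Set G) ⊓ Subgroup.centralizer ({t} : Set G) = S.N from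
    inf_eq_left.2 hle] at hc
  have hcm := Subgroup.card_mul_index (Subgroup.centralizer ({t} : Set G))
  rw [hc, S.card_G] at hcm
  have hprod : n * (Subgroup.centralizer ({t} : Set G)).index = 21 := by
    refine Nat.eq_of_mul_eq_mul_left (Nat.card_pos (α := S.N)) ?_
    linarith
  have hidx1 : (Subgroup.centralizer ({t} : Set G)).index ≠ 1 :=
    fun h => hM (Subgroup.index_eq_one.1 h)
  have hn1 : n = 1 := by
    have hd : n ∣ 21 := Dvd.intro _ hprod
    have hall : ∀ m ≤ 21, m ∣ 21 → m % 5 = 1 → m = 1 ∨ m = 21 := by decide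
    rcases hall n (Nat.le_of_dvd (by norm_num) hd) hd hn5 with h | h
    · exact h
    · exfalso; rw [h] at hprod; omega
  rw [hn1, one_mul] at hc
  have hCN : Subgroup.centralizer ({t} : Set G) = S.N :=
    (Subgroup.eq_of_le_of_card_ge hle hc.le).symm
  have hF := card_fixedBy_mul_card S.N t
  rw [S.fixed_invol hG htC ht, one_mul, hc] at hF
  have hm : Nat.card {h : G // h ∈ S.N ∧ IsConj t h} = 1 :=
    Nat.eq_of_mul_eq_mul_right (Nat.card_pos (α := S.N)) (by rw [one_mul]; exact hF.symm)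
  have hiso : Cfsg.IsIsolatedInvolution t := by
    refine ⟨ht, fun g hg => ?_⟩
    haveI := (Nat.card_eq_one_iff_unique.1 hm).1
    have hmem : g * t * g⁻¹ ∈ S.N := hCN ▸ Subgroup.mem_centralizer_singleton_iff.2 hg.eq.symm
    exact congrArg Subtype.val (Subsingleton.elim
      (⟨g * t * g⁻¹, hmem, isConj_iff.2 ⟨g, rfl⟩⟩ : {h : G // h ∈ S.N ∧ IsConj t h})
      ⟨t, S.C_le_N htC, IsConj.refl t⟩)
  obtain ⟨K, hKn, hKodd, hK⟩ := ZStar.exists_oddNormal hiso
  rcases hKn.eq_bot_or_eq_top with h | h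
  · have hc' : t ∈ Subgroup.center G := Subgroup.mem_center_iff.2 fun g => by
      have hg := hK g
      rw [h, Subgroup.mem_bot, mul_inv_eq_one, mul_inv_eq_iff_eq_mul] at hg
      exact hg.symm
    rw [center_eq_bot_of_simple hG, Subgroup.mem_bot] at hc'
    exact ht1 hc'
  · rw [h, Subgroup.card_top] at hKodd
    exact (Nat.not_even_iff_odd.2 hKodd) (even_iff_two_dvd.2 (ht ▸ orderOf_dvd_natCard t))

/-- A centraliser of order 10 or 20. -/
theorem false_of_ten_or_twenty (hG : ¬ IsMulCommutative G)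
    (hC : Nat.card S.C = 10 ∨ Nat.card S.C = 20) : False := by
  classical
  haveI : Fact (Nat.Prime 2) := ⟨by norm_num⟩
  obtain ⟨k, hk0, hCk⟩ : ∃ k, k ≠ 0 ∧ Nat.card S.C = 5 * 2 ^ k := by
    rcases hC with h | h
    · exact ⟨1, one_ne_zero, h⟩
    · exact ⟨2, two_ne_zero, h⟩
  obtain ⟨K, hKC, hK⟩ := exists_two_subgroup_le (H := S.C) (k := k) ⟨5, by rw [hCk, mul_comm]⟩
  have hK' : Nat.card (K.subgroupOf S.C) = 2 ^ k := by
    rw [Nat.card_congr (Subgroup.subgroupOfEquivOfLe hKC).toEquiv, hK]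
  obtain ⟨Q₀, hQ₀⟩ := (IsPGroup.of_card (p := 2) hK').exists_le_sylow
  have hQ₀card := card_sylow_eq (G := ↥S.C) (p := 2) (k := k) (m := 5) (by rw [hCk, mul_comm])
    (by norm_num) Q₀
  have hQK : K.subgroupOf S.C = (Q₀ : Subgroup ↥S.C) :=
    Subgroup.eq_of_le_of_card_ge hQ₀ (by rw [hK', hQ₀card])
  -- `K` is normal in `C`, `P` being central there
  have hnorm : (Q₀ : Subgroup ↥S.C).Normal := by
    rw [← Subgroup.normalizer_eq_top_iff]
    refine Subgroup.eq_top_of_card_eq _ (Nat.dvd_antisymm (Subgroup.card_subgroup_dvd_card _) ?_)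
    rw [hCk]
    refine Nat.Coprime.mul_dvd_of_dvd_of_dvd ((by norm_num : Nat.Coprime 5 2).pow_right k) ?_
      (hQ₀card ▸ Subgroup.card_dvd_of_le Subgroup.le_normalizer)
    have h5 : Nat.card ((S.P : Subgroup G).subgroupOf S.C) = 5 :=
      (Nat.card_congr (Subgroup.subgroupOfEquivOfLe S.P_le_C).toEquiv).trans S.card_P
    rw [← h5]
    refine Subgroup.card_dvd_of_le fun x hx => Subgroup.centralizer_le_normalizer _ ?_
    rw [Subgroup.mem_centralizer_iff]
    intro y _
    exact (Subtype.ext (Subgroup.mem_centralizer_iff.1 y.2 x hx) : x * y = y * x).symm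
  have huniq : ∀ u ∈ S.C, u ^ 2 ^ k = 1 → u ∈ K := by
    intro u hu hu2
    have h1 : (⟨u, hu⟩ : ↥S.C) ∈ (Q₀ : Subgroup ↥S.C) := by
      rw [← QuotientGroup.eq_one_iff (N := (Q₀ : Subgroup ↥S.C)), ← orderOf_eq_one_iff]
      have hdiv : orderOf ((⟨u, hu⟩ : ↥S.C) : ↥S.C ⧸ (Q₀ : Subgroup ↥S.C)) ∣ 2 ^ k :=
        (orderOf_map_dvd (QuotientGroup.mk' _) _).trans
          (orderOf_dvd_iff_pow_eq_one.2 (Subtype.ext (by simpa using hu2)))
      have hidx : orderOf ((⟨u, hu⟩ : ↥S.C) : ↥S.C ⧸ (Q₀ : Subgroup ↥S.C)) ∣ 5 := by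
        refine (orderOf_dvd_natCard _).trans (dvd_of_eq ?_)
        have h := Subgroup.card_mul_index (Q₀ : Subgroup ↥S.C)
        rw [hQ₀card, hCk, mul_comm 5] at h
        rw [← Subgroup.index_eq_card]
        exact Nat.eq_of_mul_eq_mul_left (by positivity) h
      exact Nat.eq_one_of_dvd_coprimes ((by norm_num : Nat.Coprime 2 5).pow_left k) hdiv hidx
    rw [← hQK] at h1
    exact Subgroup.mem_subgroupOf.1 h1
  have hKN : S.N ≤ Subgroup.normalizer (K : Set G) := by
    intro g hg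
    rw [Subgroup.mem_normalizer_iff]
    have key : ∀ g ∈ S.N, ∀ x ∈ K, g * x * g⁻¹ ∈ K := by
      intro g hg x hx
      refine huniq _ ?_ ?_
      · rw [Setting.C, Subgroup.mem_centralizer_iff]
        intro b hb
        have h := Subgroup.mem_centralizer_iff.1 (hKC hx) (g⁻¹ * b * g)
          ((Subgroup.mem_normalizer_iff''.1 hg b).1 hb)
        calc b * (g * x * g⁻¹) = g * ((g⁻¹ * b * g) * x) * g⁻¹ := by group
          _ = g * (x * (g⁻¹ * b * g)) * g⁻¹ := by rw [h]
          _ = g * x * g⁻¹ * b := by group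
      · rw [conj_pow, orderOf_dvd_iff_pow_eq_one.1 (hK ▸ Subgroup.orderOf_dvd_natCard K hx)]
        group
    intro x
    refine ⟨key g hg x, fun h => ?_⟩
    have := key g⁻¹ (inv_mem hg) _ h
    simpa [mul_assoc] using this
  obtain ⟨T⟩ : Nonempty (Sylow 2 ↥S.N) := inferInstance
  letI : MulAction ↥(T : Subgroup ↥S.N) ↥K :=
    MulAction.compHom _ (K.normalizerMonoidHom.comp
      ((Subgroup.inclusion hKN).comp (T : Subgroup ↥S.N).subtype))
  obtain ⟨t, htfix, ht1⟩ := T.isPGroup'.exists_fixed_point_of_prime_dvd_card_of_fixed_point ↥K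
    (by rw [hK]; exact dvd_pow_self 2 hk0) (a := 1) (fun g => Subtype.ext (by show (_ : G) * 1 * _⁻¹ = 1; rw [mul_one, mul_inv_cancel]))
  have hTt : ∀ x ∈ (T : Subgroup ↥S.N), Commute (x : G) (t : G) := fun x hx => by
    have h : (x : G) * t * (x : G)⁻¹ = t := congrArg Subtype.val (htfix ⟨x, hx⟩)
    exact mul_inv_eq_iff_eq_mul.1 h
  -- an involution power of `t`
  obtain ⟨j, -, hj⟩ := (Nat.dvd_prime_pow Nat.prime_two).1 (hK ▸ Subgroup.orderOf_dvd_natCard K t.2)
  have hj0 : j ≠ 0 := fun h => ht1 (Subtype.ext (orderOf_eq_one_iff.1 (by rw [hj, h, pow_zero])).symm)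
  set u := (t : G) ^ 2 ^ (j - 1)
  have hu : orderOf u = 2 := by
    rw [orderOf_pow_of_dvd (by positivity) (hj ▸ pow_dvd_pow 2 (Nat.sub_le j 1)), hj,
      Nat.pow_div (Nat.sub_le j 1) two_pos, show j - (j - 1) = 1 by omega, pow_one]
  have huC : u ∈ S.C := pow_mem (hKC t.2) _
  refine S.false_of_central_invol hG huC hu ?_
  set Z := Subgroup.centralizer ({u} : Set G) ⊓ S.N
  have hcard : Nat.card S.N ∣ Nat.card Z := by
    have hTZ : (T : Subgroup ↥S.N).map S.N.subtype ≤ Z := by
      rintro _ ⟨x, hx, rfl⟩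
      exact ⟨Subgroup.mem_centralizer_singleton_iff.2 ((hTt x hx).pow_right _).eq, x.2⟩
    have hPZ : (S.P : Subgroup G) ≤ Z :=
      le_inf (sylow_le_centralizer_singleton S.P huC) Subgroup.le_normalizer
    obtain ⟨e, he⟩ : ∃ e, Nat.card S.N = 2 ^ e * 5 := by
      rcases S.relIndex_mem hG with h | h <;> have hm := S.card_N <;> rw [h, hCk] at hm
      · exact ⟨k + 1, by rw [← hm, pow_succ]; ring⟩
      · exact ⟨k + 2, by rw [← hm, pow_succ, pow_succ]; ring⟩
    rw [he]
    refine Nat.Coprime.mul_dvd_of_dvd_of_dvd ((by norm_num : Nat.Coprime 2 5).pow_left e) ?_ ?_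
    · have h := Subgroup.card_dvd_of_le hTZ
      rw [← Nat.card_congr ((T : Subgroup ↥S.N).equivMapOfInjective _ S.N.subtype_injective).toEquiv] at h
      rwa [card_sylow_eq (G := ↥S.N) (k := e) (m := 5) he (by norm_num) T] at h
    · exact S.card_P ▸ Subgroup.card_dvd_of_le hPZ
  exact le_of_eq_of_le (Subgroup.eq_of_le_of_card_ge (inf_le_right : Z ≤ S.N)
    (Nat.le_of_dvd Nat.card_pos hcard)).symm inf_le_left

/-- An element `y` of order three of `C(P)` centralises another Sylow 5-subgroup. -/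
theorem exists_second (hG : ¬ IsMulCommutative G) {y : G} (hy : y ∈ S.C) (hy3 : orderOf y = 3) :
    ∃ Q : Sylow 5 G, Q ≠ S.P ∧ (Q : Subgroup G) ≤ Subgroup.centralizer ({y} : Set G) := by
  haveI : Fact (Nat.Prime 3) := ⟨by norm_num⟩
  have hzy : Subgroup.zpowers y ≤ S.C := Subgroup.zpowers_le.2 hy
  obtain ⟨g, hg, hconj⟩ := exists_conj_le_of_dvd_index (q := 3)
    (IsPGroup.of_card (n := 1) (by rw [Nat.card_zpowers, hy3, pow_one]) :
      IsPGroup 3 ↥(Subgroup.zpowers y)) (hzy.trans S.C_le_N) (by rw [S.index_N]; norm_num)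
  let z := g⁻¹ * y * g
  have hz : z ∈ S.N := hconj y (Subgroup.mem_zpowers y)
  have hz3 : orderOf z = 3 := by
    show orderOf (g⁻¹ * y * g) = 3
    conv_lhs => rw [show g⁻¹ * y * g = g⁻¹ * y * g⁻¹⁻¹ by rw [inv_inv]]
    rw [orderOf_conj_eq, hy3]
  obtain ⟨s, hs1, hsK, hsC⟩ := exists_ne_one_mem_centralizer_of_not_dvd
    (P := (S.P : Subgroup G)) (K := Subgroup.zpowers z) (Subgroup.zpowers_le.2 hz) (by
      rw [Nat.card_zpowers, hz3]
      change ¬ 3 ∣ S.C.relIndex S.N
      rcases S.relIndex_mem hG with h | h <;> rw [h] <;> norm_num)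
  have hzC : z ∈ S.C := by
    have := eq_zpowers_of_mem_prime (p := 3) (by rw [Nat.card_zpowers, hz3]) hsK hs1
    exact (Subgroup.zpowers_le.2 hsC) (this.symm ▸ Subgroup.mem_zpowers z)
  refine ⟨g • S.P, fun h => hg (Sylow.smul_eq_iff_mem_normalizer.1 h), ?_⟩
  rintro a ⟨b, hb, rfl⟩
  rw [Subgroup.mem_centralizer_singleton_iff]
  show g * b * g⁻¹ * y = y * (g * b * g⁻¹)
  have h := Subgroup.mem_centralizer_iff.1 hzC b hb
  calc g * b * g⁻¹ * y = g * (b * z) * g⁻¹ := by simp only [z]; group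
    _ = g * (z * b) * g⁻¹ := by rw [h]
    _ = y * (g * b * g⁻¹) := by simp only [z]; group

omit [IsSimpleGroup G] in
/-- A generator of `P`. -/
theorem exists_gen : ∃ a : G, a ∈ (S.P : Subgroup G) ∧ orderOf a = 5 ∧
    Subgroup.centralizer ({a} : Set G) = S.C := by
  haveI : Nontrivial ↥(S.P : Subgroup G) :=
    Finite.one_lt_card_iff_nontrivial.1 (by rw [S.card_P]; norm_num)
  obtain ⟨a, ha⟩ := exists_ne (1 : ↥(S.P : Subgroup G))
  have ha1 : (a : G) ≠ 1 := fun h => ha (Subtype.ext h)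
  exact ⟨a, a.2, orderOf_eq_of_mem_prime S.card_P a.2 ha1,
    centralizer_singleton_eq_of_prime S.card_P a.2 ha1⟩

omit [Fact (Nat.Prime 5)] in
/-- An element of order five commuting with one of order three rules out index seven. -/
theorem index_ne_seven [Fact (Nat.Prime 5)] {M : Subgroup G} (hM : M ≠ ⊤) {a y : G} (ha : a ∈ M)
    (hy : y ∈ M) (ha5 : orderOf a = 5) (hy3 : orderOf y = 3) (hc : Commute y a) : M.index ≠ 7 := by
  intro h7
  haveI : Fact (Nat.Prime 3) := ⟨by norm_num⟩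
  have ha' : a ^ 5 ^ 1 = 1 := by rw [pow_one]; exact orderOf_dvd_iff_pow_eq_one.1 (dvd_of_eq ha5)
  have hy' : y ^ 3 ^ 1 = 1 := by rw [pow_one]; exact orderOf_dvd_iff_pow_eq_one.1 (dvd_of_eq hy3)
  have h1 := card_fixedBy_modEq_index (q := 5) (k := 1) M ha'
  have h2 := card_fixedBy_lt_index hM (t := a) (fun h => by rw [h, orderOf_one] at ha5; omega)
  have h3 := card_fixedBy_modEq_index (q := 3) (k := 1) M hy'
  have h4 := card_fixedBy_lt_index hM (t := y) (fun h => by rw [h, orderOf_one] at hy3; omega)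
  have h5 := card_fixedBy_modEq_inter (q := 5) (k := 1) M hc ha'
  rw [h7] at h1 h2 h3 h4
  have h6 := card_inter_fixedBy_eq_two (M := M) hc hy ha (by omega)
  omega

/-- The centraliser of an element of order three of `C(P)`. -/
theorem centralizer_three (hG : ¬ IsMulCommutative G) {y : G} (hy : y ∈ S.C) (hy3 : orderOf y = 3) :
    ∃ n o : ℕ, n % 5 = 1 ∧ n ≠ 1 ∧
      o * Nat.card ↥(S.N ⊓ Subgroup.centralizer ({y} : Set G)) = Nat.card S.N ∧
      (Subgroup.centralizer ({y} : Set G)).index * n = 21 * o ∧ n ∣ 6 * o := by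
  haveI : Fact (Nat.Prime 3) := ⟨by norm_num⟩
  set M := Subgroup.centralizer ({y} : Set G)
  obtain ⟨n, hn, hc, hne⟩ :=
    exists_card_eq_mul_normalizer S.P (sylow_le_centralizer_singleton S.P hy)
  change Nat.card M = n * Nat.card ↥(S.N ⊓ M) at hc
  obtain ⟨o, ho⟩ := Subgroup.card_dvd_of_le (inf_le_left : S.N ⊓ M ≤ S.N)
  refine ⟨n, o, hn, hne (S.exists_second hG hy hy3), by rw [ho, mul_comm], ?_, ?_⟩
  · have h := Subgroup.card_mul_index M
    rw [hc, S.card_G, ho] at h
    refine Nat.eq_of_mul_eq_mul_left (Nat.card_pos (α := ↥(S.N ⊓ M))) ?_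
    linarith
  · have hy1 : y ≠ 1 := fun h => by rw [h, orderOf_one] at hy3; omega
    have h5 := S.fixed_mod hy
    have h21 := S.fixed_lt hy1
    have h3 := card_fixedBy_modEq_index (q := 3) (k := 1) S.N (x := y)
      (by rw [pow_one]; exact orderOf_dvd_iff_pow_eq_one.1 (dvd_of_eq hy3))
    rw [S.index_N] at h3
    have hf : Nat.card (MulAction.fixedBy (G ⧸ S.N) y) = 6 := by omega
    have hF := card_fixedBy_mul_card S.N y
    rw [hf, ho] at hF
    change 6 * _ = _ * Nat.card M at hF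
    rw [hc] at hF
    refine Dvd.intro_left (Nat.card {h : G // h ∈ S.N ∧ IsConj y h}) ?_
    refine Nat.eq_of_mul_eq_mul_left (Nat.card_pos (α := ↥(S.N ⊓ M))) ?_
    linarith

/-- Index fourteen with an element having eleven fixed cosets gives a three-cycle. -/
theorem false_of_fourteen (hG : ¬ IsMulCommutative G) {y : G} (hy3 : orderOf y = 3)
    (hidx : (Subgroup.centralizer ({y} : Set G)).index = 14)
    (hfix : Nat.card (MulAction.fixedBy (G ⧸ Subgroup.centralizer ({y} : Set G)) y) = 11)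
    {a : G} (ha5 : orderOf a = 5) (haM : a ∈ Subgroup.centralizer ({y} : Set G))
    (hcard : Nat.card G ≤ 5040) : False := by
  classical
  set M := Subgroup.centralizer ({y} : Set G) with hMdef
  have hMtop : M ≠ ⊤ := fun h => by rw [h, Subgroup.index_top] at hidx; norm_num at hidx
  haveI := Fintype.ofFinite (G ⧸ M)
  have hyM : y ∈ M := Subgroup.mem_centralizer_singleton_iff.2 rfl
  have hcoatom : IsCoatom M := by
    refine ⟨hMtop, fun L hlt => ?_⟩
    by_contra hL
    have hne : M.relIndex L ≠ 1 := fun h => hlt.not_ge (Subgroup.relIndex_eq_one.1 h)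
    have hmul := Subgroup.relIndex_mul_index hlt.le
    rw [hidx] at hmul
    have h2 := two_lt_index hG L hL
    have hd : L.index ∣ 14 := Dvd.intro_left _ hmul
    have hall : ∀ m ≤ 14, m ∣ 14 → 2 < m → m = 7 ∨ m = 14 := by decide
    rcases hall L.index (Nat.le_of_dvd (by norm_num) hd) hd h2 with h | h
    · exact index_ne_seven hL (hlt.le haM) (hlt.le hyM) ha5 hy3
        (Subgroup.mem_centralizer_singleton_iff.1 haM).symm h
    · rw [h] at hmul; omega
  haveI : Nontrivial (G ⧸ M) := Finite.one_lt_card_iff_nontrivial.1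
    (by rw [← Subgroup.index_eq_card, hidx]; norm_num)
  have hst : MulAction.stabilizer G ((1 : G) : G ⧸ M) = M := MulAction.stabilizer_quotient M
  have hprim : MulAction.IsPreprimitive G (G ⧸ M) :=
    (MulAction.isCoatom_stabilizer_iff_preprimitive (G := G) (a := ((1 : G) : G ⧸ M))).1 (hst.symm ▸ hcoatom)
  set f := MulAction.toPermHom G (G ⧸ M) with hf
  let φ : MulActionHom f.rangeRestrict (G ⧸ M) (G ⧸ M) :=
    { toFun := id, map_smul' := fun _ _ => rfl }
  have hprim' : MulAction.IsPreprimitive f.range (G ⧸ M) :=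
    MulAction.IsPreprimitive.of_surjective (f := φ) Function.surjective_id
  have h3 : (f y).IsThreeCycle := by
    rw [← card_support_eq_three_iff]
    have h := Finset.card_compl_add_card (f y).support
    rw [← Nat.card_eq_fintype_card, ← Subgroup.index_eq_card, hidx] at h
    have hc : (f y).supportᶜ.card = 11 := by
      rw [← hfix, Nat.card_eq_fintype_card]
      refine (Fintype.card_of_subtype _ fun c => ?_).symm
      rw [Finset.mem_compl, Equiv.Perm.mem_support, not_not]
      rfl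
    omega
  have hle := Equiv.Perm.alternatingGroup_le_of_isPreprimitive_of_isThreeCycle_mem hprim' h3
    ⟨y, rfl⟩
  have h1 := Nat.le_of_dvd Nat.card_pos (Subgroup.card_dvd_of_le hle)
  have h2 : Nat.card f.range ≤ Nat.card G :=
    Nat.le_of_dvd Nat.card_pos (Subgroup.card_range_dvd f)
  have h4 := two_mul_nat_card_alternatingGroup (α := G ⧸ M)
  rw [Nat.card_perm, ← Subgroup.index_eq_card, hidx] at h4
  have : (14 : ℕ).factorial = 87178291200 := rfl
  omega

end Setting

end CfsgLib.Small.TwentyOne
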